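import Cfsg.Agent.Lib.AbelianSylow.Three.Fixed

/-!
# No fixed point of the three-cycle on `A` when `3 ∤ a` (owner: helper88)

`C(w) = O ⟨u⟩`; in `O / ⟨w⟩` the image of `C_A(w)` is a TI subgroup without fusion inverted by `u`, so
`(c/3)² = 1` modulo its order, while `c² = 1 (mod a)`: the order divides 8.
-/

set_option autoImplicit false
set_option linter.unusedSectionVars false
set_option linter.style.haveILetI false

namespace Cfsg.Agent.AbelianSylow.Local

open Cfsg Subgroup AbelianTwoPSL Involution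

universe u

variable {G : Type u} [Group G] [Finite G] {F : Type} [Field F] [Fintype F]
variable {t : G} {L : Subgroup G} {a : ℕ} {S : Sylow 2 G} {V : Subgroup G} {i s y x w u : G}

/-- `C(w)` is an odd normal subgroup times `⟨u⟩`. -/
theorem Torus.exists_odd_cent (T : Torus F t L a S V i s y) (C : Cyc t i y w u) (h3a : ¬ 3 ∣ a) :
    ∃ O : Subgroup G, O ≤ centralizer ({w} : Set G) ∧ Odd (Nat.card O) ∧ (∀ z ∈ O, u * z * u⁻¹ ∈ O) ∧
      (∀ z : G, Commute z w → Odd (orderOf z) → z ∈ O) ∧ ∀ z : G, Commute z w → z ∈ O ∨ u * z ∈ O := by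
  classical
  haveI : Fact (Nat.Prime 2) := ⟨Nat.prime_two⟩
  set H := centralizer ({w} : Set G) with hH
  have huH : u ∈ H := mem_centralizer_singleton_iff.2 C.wu.symm.eq
  obtain ⟨c, hc, -, hcard⟩ := T.card_cent_three h3a C.ou C.order C.wu
  set u' : H := ⟨u, huH⟩
  have hu' : orderOf u' = 2 := by rw [← orderOf_coe]; exact C.ou
  obtain ⟨R, hR⟩ := (IsPGroup.of_card (G := zpowers u') (p := 2) (n := 1)
    (by rw [Nat.card_zpowers, hu', pow_one])).exists_le_sylow
  obtain ⟨Q, hQ⟩ := (R.2.map H.subtype).exists_le_sylow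
  have hRK : (R : Subgroup H).map H.subtype ≤ H ⊓ centralizer ({u} : Set G) := fun z hz => by
    refine ⟨?_, mem_centralizer_singleton_iff.2
      (sylow_comm T.fac.data Q z (hQ hz) u (hQ ⟨u', hR (mem_zpowers _), rfl⟩)).eq⟩
    obtain ⟨z', -, rfl⟩ := hz
    exact z'.2
  have hR2 : Nat.card (R : Subgroup H) = 2 := by
    have hd := card_dvd_of_le hRK
    rw [card_map_of_injective H.subtype_injective, hcard] at hd
    obtain ⟨k, hk⟩ := IsPGroup.iff_card.1 R.2
    have h2 : 2 ∣ Nat.card (R : Subgroup H) := by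
      exact (dvd_of_eq (by rw [Nat.card_zpowers, hu'])).trans (card_dvd_of_le hR)
    rw [hk] at hd h2 ⊢
    rcases k with _ | _ | k
    · simp at h2
    · rfl
    · exfalso
      have : 2 ∣ c := Nat.dvd_of_mul_dvd_mul_left two_pos
        ((show 2 * 2 ∣ 2 ^ (k + 2) from ⟨2 ^ k, by ring⟩).trans hd)
      exact Nat.not_even_iff_odd.2 hc (even_iff_two_dvd.2 this)
  have hRu : (R : Subgroup H) = zpowers u' :=
    (eq_of_le_of_card_ge hR (by rw [hR2, Nat.card_zpowers, hu'])).symm
  have hP : normalizer ((R : Subgroup H) : Set H) ≤ centralizer ((R : Subgroup H) : Set H) := by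
    intro g hg
    have hm : g * u' * g⁻¹ ∈ (R : Subgroup H) := (mem_normalizer_iff.1 hg u').1 (hR (mem_zpowers _))
    have hcases : ∀ z ∈ (R : Subgroup H), z = 1 ∨ z = u' := by
      intro z hz
      rw [hRu] at hz
      obtain ⟨k, rfl⟩ := hz
      have h2 : u' ^ (2 : ℤ) = 1 := by
        rw [zpow_two, ← pow_two, ← hu', pow_orderOf_eq_one]
      show u' ^ k = 1 ∨ u' ^ k = u'
      rcases Int.even_or_odd' k with ⟨l, rfl | rfl⟩
      · left; rw [zpow_mul, h2, one_zpow]
      · right; rw [zpow_add, zpow_mul, h2, one_zpow, one_mul, zpow_one]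
    have hgu : g * u' * g⁻¹ = u' := by
      rcases hcases _ hm with e | e
      · exfalso
        rw [conj_eq_one_iff.1 e, orderOf_one] at hu'
        omega
      · exact e
    refine mem_centralizer_iff.2 fun z hz => ?_
    rcases hcases z hz with rfl | rfl
    · simp
    · exact (mul_inv_eq_iff_eq_mul.1 hgu).symm
  set K := (MonoidHom.transferSylow R hP).ker
  have hcomp := MonoidHom.ker_transferSylow_isComplement' R hP
  have hKodd : ¬ 2 ∣ Nat.card K := MonoidHom.not_dvd_card_ker_transferSylow R hP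
  have hKn : K.Normal := MonoidHom.normal_ker _
  refine ⟨K.map H.subtype, fun z ⟨z', _, e⟩ => e ▸ z'.2, ?_, ?_, fun z hz ho => ?_, fun z hz => ?_⟩
  · rw [card_map_of_injective H.subtype_injective, Nat.odd_iff]
    omega
  · rintro _ ⟨z', hz', rfl⟩
    exact ⟨u' * z' * u'⁻¹, hKn.conj_mem z' hz' u', rfl⟩
  · refine ⟨⟨z, mem_centralizer_singleton_iff.2 hz.eq⟩, ?_, rfl⟩
    refine MonoidHom.mem_ker.2 (orderOf_eq_one_iff.1 ?_)
    refine Nat.eq_one_of_dvd_coprimes (a := 2) (b := orderOf z) (Nat.coprime_two_left.2 ho) ?_ ?_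
    · exact (_root_.orderOf_dvd_natCard _).trans hR2.dvd
    · rw [show orderOf z = orderOf (⟨z, mem_centralizer_singleton_iff.2 hz.eq⟩ : H) from
        Subgroup.orderOf_coe (⟨z, mem_centralizer_singleton_iff.2 hz.eq⟩ : H)]
      exact orderOf_map_dvd _ _
  · obtain ⟨⟨⟨k, hk⟩, ⟨r, hr⟩⟩, e⟩ := hcomp.2 ⟨z, mem_centralizer_singleton_iff.2 hz.eq⟩
    have e' : ((k : H) : G) * (r : G) = z := congrArg Subtype.val e
    rw [hRu] at hr
    have h2 : u' * u' = 1 := by rw [← pow_two, ← hu', pow_orderOf_eq_one]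
    have huu : u * u = 1 := congrArg Subtype.val h2
    rcases (show r = 1 ∨ r = u' by
      obtain ⟨m, rfl⟩ := hr
      have h2' : u' ^ (2 : ℤ) = 1 := by rw [zpow_two, h2]
      show u' ^ m = 1 ∨ u' ^ m = u'
      rcases Int.even_or_odd' m with ⟨l, rfl | rfl⟩
      · left; rw [zpow_mul, h2', one_zpow]
      · right; rw [zpow_add, zpow_mul, h2', one_zpow, one_mul, zpow_one]) with rfl | rfl
    · exact Or.inl ⟨k, hk, by simpa using e'⟩
    · refine Or.inr ⟨u' * k * u'⁻¹, hKn.conj_mem k hk u', ?_⟩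
      show u * (k : G) * u⁻¹ = u * z
      rw [← e', inv_eq_of_mul_eq_one_right huu, mul_assoc]

/-- No point of `A#` is fixed by `w` if `3 ∤ a`. -/
theorem Torus.not_fixed_B (T : Torus F t L a S V i s y) (C : Cyc t i y w u) (h3a : ¬ 3 ∣ a)
    (hx : x ∈ oddTor y) (hx1 : x ≠ 1) (hwx : Commute w x) : False := by
  classical
  obtain ⟨O, hOH, hOodd, huO, hmemO, hcases⟩ := T.exists_odd_cent C h3a
  obtain ⟨c, hc, hcmod, hcard⟩ := T.card_cent_three h3a C.ou C.order C.wu
  have hwO : w ∈ O := hmemO w (Commute.refl w) (Torus.odd_three C.order)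
  have hcomm : ∀ z ∈ O, Commute z w := fun z hz => mem_centralizer_singleton_iff.1 (hOH hz)
  have huu : u * u = 1 := mul_self C.ou
  have hui : u⁻¹ = u := inv_eq_of_mul_eq_one_right huu
  -- conjugation by `u`
  have huuz : ∀ z : G, u * (u * z * u⁻¹) * u⁻¹ = z := fun z => by
    rw [hui, show u * (u * z * u) * u = (u * u) * z * (u * u) by group, huu, one_mul, mul_one]
  let σ : O ≃* O :=
    { toFun := fun z => ⟨u * z * u⁻¹, huO z z.2⟩
      invFun := fun z => ⟨u * z * u⁻¹, huO z z.2⟩
      left_inv := fun z => Subtype.ext (huuz z)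
      right_inv := fun z => Subtype.ext (huuz z)
      map_mul' := fun z z' => Subtype.ext (by simp [mul_assoc]) }
  have hσv : ∀ z : O, ((σ z : O) : G) = u * z * u⁻¹ := fun z => rfl
  let w' : O := ⟨w, hwO⟩
  have hσw : σ w' = w' := Subtype.ext (by
    rw [hσv, show u * (w' : G) = w' * u from C.wu.symm.eq, mul_inv_cancel_right])
  have how' : orderOf w' = 3 := by rw [← orderOf_coe]; exact C.order
  set N := zpowers w' with hN
  haveI hNn : N.Normal := ⟨fun n hn g => by
    obtain ⟨k, rfl⟩ := hn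
    have : Commute g w' := Subtype.ext (hcomm g g.2).eq
    rw [(this.zpow_right k).eq, mul_inv_cancel_right]
    exact ⟨k, rfl⟩⟩
  have hNcard : Nat.card N = 3 := by rw [hN, Nat.card_zpowers, how']
  have hNσ : N.map (σ : O ≃* O).toMonoidHom = N := by
    rw [hN, MonoidHom.map_zpowers]
    exact congrArg zpowers hσw
  let σb : (O ⧸ N) ≃* (O ⧸ N) := QuotientGroup.congr N N σ hNσ
  let π : O →* O ⧸ N := QuotientGroup.mk' N
  have hσb : ∀ z : O, σb (π z) = π (σ z) := fun z => rfl
  have hσσ : ∀ g, σb (σb g) = g := fun g => by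
    obtain ⟨z, rfl⟩ := QuotientGroup.mk'_surjective N g
    rw [show (QuotientGroup.mk' N) z = π z from rfl, hσb, hσb]
    exact congrArg π (Subtype.ext (huuz z))
  have hπ : ∀ z z' : O, π z = π z' ↔ ∃ k : ℤ, (z' : G) = z * w ^ k := fun z z' => by
    refine QuotientGroup.eq.trans ?_
    rw [hN, mem_zpowers_iff]
    refine exists_congr fun k => ⟨fun e => ?_, fun e => Subtype.ext ?_⟩
    · have e' : w ^ k = (z : G)⁻¹ * z' := by simpa [w'] using congrArg Subtype.val e
      rw [e', mul_inv_cancel_left]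
    · simp [w', e]
  -- the fixed part of `A`
  let B : Subgroup O := (oddTor y).subgroupOf O
  have hB : ∀ z : O, z ∈ B → σ z = z⁻¹ := fun z hz => Subtype.ext (by
    rw [hσv]; exact C.inv _ hz)
  have hoB : ∀ z : O, z ∈ B → (z : G) ^ a = 1 := fun z hz => by
    have h := pow_card_eq_one' (x := (⟨z, hz⟩ : oddTor y))
    rw [T.card_oddTor] at h
    exact congrArg Subtype.val h
  have hw_pow : ∀ (z : G) (k : ℤ), z ∈ oddTor y → z = w ^ k → z = 1 := fun z k hz e => by
    have h1 : orderOf z ∣ a := T.card_oddTor ▸ (oddTor y).orderOf_dvd_natCard hz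
    have h2 : orderOf z ∣ 3 := C.order ▸ orderOf_dvd_of_mem_zpowers ⟨k, e.symm⟩
    exact orderOf_eq_one_iff.1 (Nat.eq_one_of_dvd_coprimes
      ((Nat.prime_three.coprime_iff_not_dvd.2 h3a).symm) h1 h2)
  have hinjB : ∀ z z' : O, z ∈ B → z' ∈ B → π z = π z' → z = z' := fun z z' hz hz' e => by
    obtain ⟨k, hk⟩ := (hπ z z').1 e
    have h1 := hw_pow ((z : G)⁻¹ * z') k (mul_mem (inv_mem hz) hz') (by rw [hk, inv_mul_cancel_left])
    exact Subtype.ext (inv_mul_eq_one.1 h1)
  have hmod := Three.sq_card_fixed_mod (A := B.map π) ?_ σb hσσ ?_ ?_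
  · -- the order of the fixed part
    set a0 := Nat.card (B.map π) with ha0
    have hBcard : a0 = Nat.card B := by
      refine (Nat.card_congr (Equiv.ofBijective (fun z : B => (⟨π z, mem_map_of_mem π z.2⟩ : B.map π))
        ⟨fun z z' e => Subtype.ext (hinjB z z' z.2 z'.2 (congrArg Subtype.val e)), ?_⟩)).symm
      rintro ⟨_, z, hz, rfl⟩
      exact ⟨⟨z, hz⟩, rfl⟩
    have hxO : x ∈ O := hmemO x hwx.symm (T.odd_oddTor hx)
    have ha0a : a0 ∣ a := by
      rw [hBcard, ← T.card_oddTor]
      exact card_dvd_of_injective (⟨⟨fun z : B => (⟨((z : O) : G), z.2⟩ : oddTor y), rfl⟩, fun _ _ => rfl⟩ : B →* oddTor y)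
        fun z z' e => Subtype.ext (Subtype.ext (congrArg Subtype.val e :))
    -- the fixed points
    let C0 : Subgroup O := (centralizer ({u} : Set G)).subgroupOf O
    have hC0 : ∀ z : O, z ∈ C0 ↔ Commute (z : G) u := fun z => mem_centralizer_singleton_iff
    have hC0card : Nat.card C0 = c := by
      have hK : Nat.card (centralizer ({w} : Set G) ⊓ centralizer ({u} : Set G) : Subgroup G) =
          2 * Nat.card C0 := by
        let φ : Bool × C0 → (centralizer ({w} : Set G) ⊓ centralizer ({u} : Set G) : Subgroup G) :=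
          fun p => ⟨(if p.1 then u else 1) * ((p.2 : O) : G), mul_mem (by
            split
            · exact ⟨mem_centralizer_singleton_iff.2 C.wu.symm.eq, mem_centralizer_singleton_iff.2 rfl⟩
            · exact one_mem _)
            ⟨hOH (p.2 : O).2, mem_centralizer_singleton_iff.2 ((hC0 _).1 p.2.2).eq⟩⟩
        have huO' : u ∉ O := fun h => by
          have := hOodd.of_dvd_nat (O.orderOf_dvd_natCard h)
          rw [C.ou] at this
          exact absurd this (by decide)
        have hφ : Function.Bijective φ := by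
          constructor
          · rintro ⟨b, z⟩ ⟨b', z'⟩ h
            have h' : (if b then u else 1) * ((z : O) : G) = (if b' then u else 1) * ((z' : O) : G) :=
              congrArg Subtype.val h
            cases b <;> cases b' <;> simp only [Bool.false_eq_true, if_false, if_true, one_mul] at h'
            · rw [Subtype.ext (Subtype.ext h')]
            · exact absurd (eq_mul_inv_of_mul_eq h'.symm ▸ mul_mem (z : O).2 (inv_mem (z' : O).2)) huO'
            · exact absurd (eq_mul_inv_of_mul_eq h' ▸ mul_mem (z' : O).2 (inv_mem (z : O).2)) huO'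
            · rw [Subtype.ext (Subtype.ext (mul_left_cancel h'))]
          · rintro ⟨z, hzw, hzu⟩
            have hzu' : Commute z u := mem_centralizer_singleton_iff.1 hzu
            rcases hcases z (mem_centralizer_singleton_iff.1 hzw) with h | h
            · exact ⟨(false, ⟨⟨z, h⟩, (hC0 ⟨z, h⟩).2 hzu'⟩), Subtype.ext (one_mul z)⟩
            · refine ⟨(true, ⟨⟨u * z, h⟩, (hC0 ⟨u * z, h⟩).2 ((Commute.refl u).mul_left hzu')⟩),
                Subtype.ext ?_⟩
              show u * (u * z) = z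
              rw [← mul_assoc, huu, one_mul]
        rw [← Nat.card_congr (Equiv.ofBijective φ hφ), Nat.card_prod]
        simp
      rw [hcard] at hK
      omega
    have hw'C : w' ∈ C0 := (hC0 w').2 C.wu
    have hfix : ∀ z : O, σb (π z) = π z ↔ z ∈ C0 := fun z => by
      rw [hσb, hC0]
      constructor
      · intro e
        obtain ⟨k, hk⟩ := (hπ _ _).1 e
        rw [hσv] at hk
        -- apply the conjugation once more: `w ^ (2 k) = 1`
        have hwk : Commute u (w ^ k) := C.wu.symm.zpow_right k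
        have h2 : u * (z : G) * u⁻¹ = z * w ^ k := by
          conv_lhs => rw [hk]
          rw [show u * (u * (z : G) * u⁻¹ * w ^ k) * u⁻¹ = u * (u * (z : G) * u⁻¹) * (w ^ k * u⁻¹) by group,
            ← hwk.inv_left.eq, ← mul_assoc, huuz]
        have h3 : w ^ k * w ^ k = 1 := by
          rw [h2, mul_assoc] at hk
          exact mul_eq_left.1 hk.symm
        have h4 : w ^ k = 1 := PSL2.eq_one_of_sq (by
          exact (Torus.odd_three C.order).of_dvd_nat (orderOf_dvd_of_mem_zpowers ⟨k, rfl⟩))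
          (by first | exact h3 | rw [pow_two]; exact h3)
        rw [h4, mul_one] at hk
        exact (mul_inv_eq_iff_eq_mul.1 hk.symm).symm
      · intro e
        exact congrArg π (Subtype.ext (by rw [hσv, ← e.eq, mul_inv_cancel_right]))
    have hfixcard : Nat.card {g : O ⧸ N // σb g = g} * 3 = c := by
      have e1 : Nat.card {g : O ⧸ N // σb g = g} = Nat.card (C0.map π) := by
        refine Nat.card_congr (Equiv.subtypeEquivRight fun g => ?_)
        obtain ⟨z, rfl⟩ := QuotientGroup.mk'_surjective N g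
        refine ⟨fun h => mem_map_of_mem π ((hfix z).1 h), fun h => ?_⟩
        obtain ⟨z', hz', e⟩ := h
        rw [← e]
        exact (hfix z').2 hz'
      have h := (π.comp C0.subtype).ker.card_mul_index
      rw [index_ker, MonoidHom.range_comp, range_subtype] at h
      have hk : Nat.card (π.comp C0.subtype).ker = 3 := by
        have e : (π.comp C0.subtype).ker = N.subgroupOf C0 := by
          ext z
          exact (QuotientGroup.eq_one_iff (z : O)).trans mem_subgroupOf.symm
        rw [e, Nat.card_congr (subgroupOfEquivOfLe (zpowers_le.2 hw'C)).toEquiv, hNcard]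
      rw [hk, hC0card] at h
      rw [e1, mul_comm, h]
    -- arithmetic
    set f := Nat.card {g : O ⧸ N // σb g = g}
    have hf : f ^ 2 ≡ 1 [MOD a0] := hmod
    have hc2 : c ^ 2 ≡ 1 [MOD a0] := Nat.ModEq.of_dvd ha0a hcmod
    rw [← hfixcard, mul_pow] at hc2
    have h9 : 9 ≡ 1 [MOD a0] := ((hf.mul_right (3 ^ 2)).symm.trans hc2)
    have h8 : a0 ∣ 8 := (Nat.modEq_iff_dvd' (by norm_num : 1 ≤ 9)).1 h9.symm
    have ha0one : a0 = 1 := Nat.eq_one_of_dvd_coprimes
      (show Nat.Coprime 8 a by exact (Nat.Coprime.pow_left 3 (Nat.coprime_two_left.2 T.a_odd))) h8 ha0a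
    rw [hBcard, card_eq_one] at ha0one
    have : (⟨x, hxO⟩ : O) ∈ B := hx
    rw [ha0one, mem_bot] at this
    exact hx1 (congrArg Subtype.val this)
  · exact hOodd.of_dvd_nat (Subgroup.card_quotient_dvd_card N)
  · rintro _ ⟨z, hz, rfl⟩
    rw [hσb, hB z hz, map_inv]
  · -- no fusion
    rintro _ ⟨v, hv, rfl⟩ hv1 g hg
    obtain ⟨g, rfl⟩ := QuotientGroup.mk'_surjective N g
    obtain ⟨v2, hv2, e⟩ := hg
    have hvne : (v : G) ≠ 1 := fun e => hv1 (by rw [show v = 1 from Subtype.ext e, map_one])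
    have e' : π v2 = π (g * v * g⁻¹) := by rw [e, map_mul, map_mul, map_inv]
    obtain ⟨k, hk⟩ := (hπ _ _).1 e'
    have hk' : (g : G) * v * (g : G)⁻¹ = v2 * w ^ k := by simpa using hk
    have hwk : w ^ k = 1 := by
      have h1 : ((g : G) * v * (g : G)⁻¹) ^ a = 1 := by rw [conj_pow, hoB v hv, mul_one, mul_inv_cancel]
      rw [hk', ((hcomm v2 v2.2).zpow_right k).mul_pow, hoB v2 hv2, one_mul] at h1
      exact orderOf_eq_one_iff.1 (Nat.eq_one_of_dvd_coprimes
        (Nat.prime_three.coprime_iff_not_dvd.2 h3a)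
        (C.order ▸ orderOf_dvd_of_mem_zpowers ⟨k, rfl⟩) (orderOf_dvd_of_pow_eq_one h1))
    rw [hwk, mul_one] at hk'
    have hgodd : Odd (orderOf (g : G)) := hOodd.of_dvd_nat (O.orderOf_dvd_natCard g.2)
    have hgv : Commute (g : G) v :=
      T.commute_of_conj_fixed C hv hvne (hcomm v v.2).symm (hk'.symm ▸ hv2) hgodd
    -- `C_O(v) = A⟨w⟩ ∩ O`
    set X := centralizer ({(v : G)} : Set G) with hX
    have hAn : ((oddTor y).subgroupOf X).Normal := by
      rw [hX, ← T.oddCore_cent (x := (v : G)) hv hvne]; exact Cores.pPrimeCore_normal 2 _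
    obtain ⟨h60, h15⟩ := T.quot_facts (x := (v : G)) hv hvne
    let πX := QuotientGroup.mk' ((oddTor y).subgroupOf X)
    set R := (O.subgroupOf X).map πX with hR
    have hwX : w ∈ X := mem_centralizer_singleton_iff.2 (hcomm v v.2).symm.eq
    have hw3 : orderOf (πX ⟨w, hwX⟩) = 3 := by
      haveI : Fact (Nat.Prime 3) := ⟨Nat.prime_three⟩
      refine orderOf_eq_prime ?_ fun e => ?_
      · rw [← map_pow, show (⟨w, hwX⟩ : X) ^ 3 = 1 from Subtype.ext C.w3, map_one]
      · have hwA : w ∈ oddTor y := mem_subgroupOf.1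
          ((QuotientGroup.eq_one_iff (N := (oddTor y).subgroupOf X) (⟨w, hwX⟩ : X)).1 e)
        have := hw_pow w 1 hwA (zpow_one w).symm
        have h := C.order
        rw [this, orderOf_one] at h
        omega
    have hwR : πX ⟨w, hwX⟩ ∈ R := mem_map_of_mem πX (show (⟨w, hwX⟩ : X) ∈ O.subgroupOf X from hwO)
    have hRodd : Odd (Nat.card R) := by
      refine hOodd.of_dvd_nat ((card_map_dvd _ _).trans ?_)
      exact card_dvd_of_injective
        (⟨⟨fun z : O.subgroupOf X => (⟨((z : X) : G), z.2⟩ : O), rfl⟩, fun _ _ => rfl⟩ :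
          O.subgroupOf X →* O)
        fun z z' e => Subtype.ext (Subtype.ext (congrArg Subtype.val e :))
    have hR3 : Nat.card R = 3 := by
      have h1 : Nat.card R ∣ 60 := R.card_subgroup_dvd_card.trans h60
      have h2 : 3 ∣ Nat.card R := hw3 ▸ R.orderOf_dvd_natCard hwR
      have h3 := h15 R
      obtain ⟨k, hk⟩ := hRodd
      have h4 := Nat.le_of_dvd (by norm_num) h1
      have h5 : k = 1 ∨ 1 < k := by omega
      rcases h5 with rfl | h5
      · omega
      · exfalso
        have hk29 : k ≤ 29 := by omega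
        rw [hk] at h1 h2 h3
        interval_cases k <;> (revert h1 h2 h3; decide)
    have hRz : R = zpowers (πX ⟨w, hwX⟩) :=
      (eq_of_le_of_card_ge (zpowers_le.2 hwR) (by rw [hR3, Nat.card_zpowers, hw3])).symm
    have hgX : (g : G) ∈ X := mem_centralizer_singleton_iff.2 hgv.eq
    obtain ⟨m, hm⟩ : πX ⟨g, hgX⟩ ∈ zpowers (πX ⟨w, hwX⟩) :=
      hRz ▸ mem_map_of_mem πX (show (⟨(g : G), hgX⟩ : X) ∈ O.subgroupOf X from g.2)
    simp only at hm
    rw [← map_zpow] at hm
    have hz : w ^ (-m) * (g : G) ∈ oddTor y := by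
      simpa [mem_subgroupOf, zpow_neg] using QuotientGroup.eq.1 hm
    refine ⟨⟨w ^ (-m) * (g : G), mul_mem (zpow_mem hwO _) g.2⟩, hz, (hπ _ _).2 ⟨m, ?_⟩⟩
    show (g : G) = w ^ (-m) * (g : G) * w ^ m
    rw [mul_assoc, ((hcomm g g.2).zpow_right m).eq, ← mul_assoc, ← zpow_add, neg_add_cancel, zpow_zero,
      one_mul]

end Cfsg.Agent.AbelianSylow.Local
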