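import Cfsg.Agent.Lib.AbelianSylow.Three.FixedA
import Cfsg.Agent.Lib.AbelianSylow.Three.FixedB

/-!
# The three-cycle acts without fixed points on `A` (owner: helper88)

* `Torus.fpf`       : an element `r` with `t ↦ i ↦ t i` commutes with no element of `A#`
* `Torus.cent_fpf`  : so `C(x) = E × A` for `x ∈ A#`
* `Torus.mod_three` : `a ≡ 1 (mod 3)`
* `three_dvd`       : `q ≡ 3 (mod 8)` gives `3 ∣ q`
-/

set_option autoImplicit false
set_option linter.unusedSectionVars false
set_option linter.style.haveILetI false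

namespace Cfsg.Agent.AbelianSylow.Local

open Cfsg Subgroup AbelianTwoPSL Involution

universe u

variable {G : Type u} [Group G] [Finite G] {F : Type} [Field F] [Fintype F]
variable {t : G} {L : Subgroup G} {a : ℕ} {S : Sylow 2 G} {V : Subgroup G} {i s y x w u : G}

theorem Torus.eq_one_of_commute (T : Torus F t L a S V i s y) (C : Cyc t i y w u) (hx : x ∈ oddTor y)
    (hwx : Commute w x) : x = 1 := by
  by_contra hx1
  exact T.not_fixed_B C (T.not_three_dvd C) hx hx1 hwx

/-- Nothing in `A#` commutes with an element cycling `t, i, t i`. -/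
theorem Torus.fpf (T : Torus F t L a S V i s y) {r : G} (h1 : r * t * r⁻¹ = i)
    (h2 : r * i * r⁻¹ = t * i) (hx : x ∈ oddTor y) (hrx : Commute r x) : x = 1 := by
  obtain ⟨w, u, C⟩ := T.exists_cyc
  refine T.eq_one_of_commute C hx ?_
  set m := w⁻¹ * r with hm
  have hmt : Commute m t := mul_inv_eq_iff_eq_mul.1 (by
    rw [hm, show w⁻¹ * r * t * (w⁻¹ * r)⁻¹ = w⁻¹ * (r * t * r⁻¹) * w by group, h1, ← C.wt]
    group)
  have hmi : Commute m i := mul_inv_eq_iff_eq_mul.1 (by
    rw [hm, show w⁻¹ * r * i * (w⁻¹ * r)⁻¹ = w⁻¹ * (r * i * r⁻¹) * w by group, h2, ← C.wi]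
    group)
  have e : r = w * m := by rw [hm, mul_inv_cancel_left]
  have hrx' : w * (m * x * m⁻¹) * w⁻¹ = x := by
    have h := hrx.eq
    rw [e] at h
    calc w * (m * x * m⁻¹) * w⁻¹ = (w * m * x) * (w * m)⁻¹ := by group
      _ = x := by rw [h, mul_inv_cancel_right]
  rcases T.cent_four hmt hmi with hm' | hm'
  · rw [(T.tor_comm hm' (T.oddTor_le_tor hx)).eq, mul_inv_cancel_right] at hrx'
    exact mul_inv_eq_iff_eq_mul.1 hrx'
  · have hss : s * s = 1 := T.frame.sq_V T.sV
    have e2 : m * x * m⁻¹ = x⁻¹ := by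
      rw [show m = s * (s * m) by rw [← mul_assoc, hss, one_mul],
        show s * (s * m) * x * (s * (s * m))⁻¹ = s * ((s * m) * x * (s * m)⁻¹) * s⁻¹ by group,
        (T.tor_comm hm' (T.oddTor_le_tor hx)).eq, mul_inv_cancel_right, T.s_inv hx]
    rw [e2] at hrx'
    have e3 : w * x * w⁻¹ = x⁻¹ := by
      calc w * x * w⁻¹ = (w * x⁻¹ * w⁻¹)⁻¹ := by group
        _ = x⁻¹ := by rw [hrx']
    have e4 : x⁻¹ = x := by
      calc x⁻¹ = w * x * w⁻¹ := e3.symm
        _ = w * (w ^ 3 * x * (w ^ 3)⁻¹) * w⁻¹ := by rw [C.w3]; group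
        _ = w * (w * (w * (w * x * w⁻¹) * w⁻¹) * w⁻¹) * w⁻¹ := by simp [pow_succ, mul_assoc, mul_inv_rev]
        _ = x := by rw [e3, hrx', e3, hrx']
    rw [e4] at e3
    exact mul_inv_eq_iff_eq_mul.1 e3

/-- `a ≡ 1 (mod 3)`. -/
theorem Torus.mod_three (T : Torus F t L a S V i s y) : a % 3 = 1 := by
  classical
  haveI : Fact (Nat.Prime 3) := ⟨Nat.prime_three⟩
  obtain ⟨w, u, C⟩ := T.exists_cyc
  let f : Function.End (oddTor y) := fun v => ⟨w * v * w⁻¹, (T.cycle_oddTor C.wt C.wi v.2).1⟩
  have hf : f ^ 3 ^ 1 = 1 := by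
    funext v
    refine Subtype.ext ?_
    show w * (w * (w * (v : G) * w⁻¹) * w⁻¹) * w⁻¹ = (v : G)
    calc w * (w * (w * (v : G) * w⁻¹) * w⁻¹) * w⁻¹ = w ^ 3 * v * (w ^ 3)⁻¹ := by
          simp [pow_succ, mul_assoc, mul_inv_rev]
      _ = v := by rw [C.w3]; group
  have := Fintype.ofFinite (oddTor y)
  have hfix : Function.fixedPoints f = {1} := by
    ext v
    rw [Function.mem_fixedPoints_iff, Set.mem_singleton_iff]
    refine ⟨fun h => Subtype.ext ?_, fun h => ?_⟩
    · exact T.eq_one_of_commute C v.2 (mul_inv_eq_iff_eq_mul.1 (congrArg Subtype.val h))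
    · subst h; exact Subtype.ext (by simp [f])
  have h := Equiv.Perm.card_fixedPoints_modEq (f := f) hf
  simp only [← Nat.card_eq_fintype_card, hfix, T.card_oddTor, Nat.card_coe_set_eq, Set.ncard_singleton] at h
  exact h

/-- `C(x) = E × A` for `x ∈ A#`. -/
theorem Torus.cent_fpf (T : Torus F t L a S V i s y) (hx : x ∈ oddTor y) (hx1 : x ≠ 1) :
    centralizer ({x} : Set G) = tor t y := by
  haveI : Fact (Nat.Prime 2) := ⟨Nat.prime_two⟩
  haveI : Fact (Nat.Prime 3) := ⟨Nat.prime_three⟩
  rcases T.card_cent_oddTor hx hx1 with h | h | h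
  · exact T.cent_eq_tor hx h
  all_goals
    exfalso
    set X := centralizer ({x} : Set G) with hX
    obtain ⟨P, hP⟩ := T.sylow_cent hx hx1
    have hE : four t i ≤ X := T.four_le_tor.trans (T.tor_le_cent hx)
    by_cases hN : normalizer ((P : Subgroup X) : Set X) ≤ centralizer ((P : Subgroup X) : Set X)
    · -- a normal 2-complement is odd, so inside `A`
      set K := (MonoidHom.transferSylow P hN).ker
      have hKn : K.Normal := MonoidHom.normal_ker _
      have hKodd : (Nat.card K).Coprime 2 :=
        ((Nat.prime_two.coprime_iff_not_dvd).2 (MonoidHom.not_dvd_card_ker_transferSylow P hN)).symm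
      have hle : K ≤ (oddTor y).subgroupOf X := by
        have h2 := Cores.le_pPrimeCore hKn (p := 2) (by first | exact hKodd | exact hKodd.symm)
        rwa [show Cfsg.pPrimeCore 2 X = (oddTor y).subgroupOf X from T.oddCore_cent hx hx1] at h2
      have hcP : Nat.card (P : Subgroup X) = 4 := by
        rw [show Nat.card (P : Subgroup X) = Nat.card ((four t i).subgroupOf X) by rw [hP],
          Nat.card_congr (subgroupOfEquivOfLe hE).toEquiv, T.card_four]
      have hc : Nat.card K * Nat.card (P : Subgroup X) = Nat.card X :=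
        (MonoidHom.ker_transferSylow_isComplement' P hN).card_mul_card
      rw [hcP, h] at hc
      have h1 : Nat.card K ≤ a := by
        refine (Nat.le_of_dvd Nat.card_pos (card_dvd_of_le hle)).trans (le_of_eq ?_)
        rw [Nat.card_congr (subgroupOfEquivOfLe (T.oddTor_le_tor.trans (T.tor_le_cent hx))).toEquiv,
          T.card_oddTor]
      have := T.a_pos
      omega
    · rw [SetLike.not_le_iff_exists] at hN
      obtain ⟨g, hgN, hgC⟩ := hN
      refine hgC ?_
      have hgx : Commute (g : G) x := mem_centralizer_singleton_iff.1 g.2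
      have hgE : ∀ e ∈ four t i, (g : G) * e * (g : G)⁻¹ ∈ four t i := fun e he => by
        have := (mem_normalizer_iff.1 hgN ⟨e, hE he⟩).1 (by rw [hP]; exact he)
        rw [hP] at this
        exact this
      have key : (g : G) * t * (g : G)⁻¹ = t := by
        have hti := mul_mem T.t_mem_four T.i_mem_four
        obtain ⟨r, -, r1, r2, r3⟩ := T.exists_cycle
        -- powers of `g` cycling `t, i, t i` would fix `x`
        have hcyc : ∀ m : G, Commute m x → (∀ e ∈ four t i, m * e * m⁻¹ ∈ four t i) →
            m * t * m⁻¹ = i → False := by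
          intro m hm hmE hmt
          have hmi : m * i * m⁻¹ = t * i := by
            rcases T.four_cases (hmE i T.i_mem_four) with e | e | e | e
            · exact absurd (conj_eq_one_iff.1 e) T.i_ne
            · exfalso
              -- `t ↦ i ↦ t`: then `m² ` ... pull back along `r`
              have h3 : Commute (r⁻¹ * m) t := mul_inv_eq_iff_eq_mul.1 (by
                rw [show r⁻¹ * m * t * (r⁻¹ * m)⁻¹ = r⁻¹ * (m * t * m⁻¹) * r by group, hmt, ← r1]
                group)
              have h4 : r⁻¹ * m * i * (r⁻¹ * m)⁻¹ = t * i := by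
                rw [show r⁻¹ * m * i * (r⁻¹ * m)⁻¹ = r⁻¹ * (m * i * m⁻¹) * r by group, e]
                calc r⁻¹ * t * r = r⁻¹ * (r * (t * i) * r⁻¹) * r := by rw [r3]
                  _ = t * i := by group
              have h5 := T.fix_i h3 (by rw [h4]; exact hti)
              rw [h5.eq, mul_inv_cancel_right] at h4
              exact T.t_ne_one (mul_eq_right.1 h4.symm)
            · exfalso
              exact T.t_ne_i (mul_left_cancel (mul_right_cancel (hmt.trans e.symm)))
            · exact e
          exact hx1 (T.fpf hmt hmi hx hm)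
        rcases T.four_cases (hgE t T.t_mem_four) with e | e | e | e
        · exact absurd (conj_eq_one_iff.1 e) T.t_ne_one
        · exact e
        · exact (hcyc g hgx hgE e).elim
        · exfalso
          -- then `g i g⁻¹ = t` and `g²: t ↦ i`, or `g` maps `i` to `i`
          rcases T.four_cases (hgE i T.i_mem_four) with e' | e' | e' | e'
          · exact T.i_ne (conj_eq_one_iff.1 e')
          · have e2 : (g : G) * g * t * ((g : G) * g)⁻¹ = i := by
              rw [show (g : G) * g * t * ((g : G) * g)⁻¹ = g * ((g : G) * t * (g : G)⁻¹) * (g : G)⁻¹ by group,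
                e, ← conj_mul, e, e', mul_assoc, ← T.commute_ti.eq, ← mul_assoc, T.fac.tt, one_mul]
            exact hcyc _ (hgx.mul_left hgx) (fun v hv => by
              rw [show (g : G) * g * v * ((g : G) * g)⁻¹ = g * ((g : G) * v * (g : G)⁻¹) * (g : G)⁻¹ by group]
              exact hgE _ (hgE v hv)) e2
          · -- `r g` fixes `t` and moves `i` to `t i`
            have h3 : Commute (r * g) t := mul_inv_eq_iff_eq_mul.1 (by
              rw [show r * (g : G) * t * (r * g)⁻¹ = r * ((g : G) * t * (g : G)⁻¹) * r⁻¹ by group, e, r3])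
            have h4 : r * (g : G) * i * (r * g)⁻¹ = t * i := by
              rw [show r * (g : G) * i * (r * g)⁻¹ = r * ((g : G) * i * (g : G)⁻¹) * r⁻¹ by group, e', r2]
            have h5 := T.fix_i h3 (by rw [h4]; exact hti)
            rw [h5.eq, mul_inv_cancel_right] at h4
            exact T.t_ne_one (mul_eq_right.1 h4.symm)
          · exact T.t_ne_i (mul_left_cancel (mul_right_cancel (e.trans e'.symm)))
      have hgt : Commute (g : G) t := mul_inv_eq_iff_eq_mul.1 key
      have hgi := T.fix_i hgt (hgE i T.i_mem_four)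
      refine mem_centralizer_iff.2 fun v hv => Subtype.ext ?_
      rw [hP] at hv
      show (v : G) * g = g * v
      rcases T.four_cases (show (v : G) ∈ four t i from hv) with e | e | e | e <;> rw [e]
      · simp
      · exact hgt.symm.eq
      · exact hgi.symm.eq
      · exact (hgt.mul_right hgi).symm.eq

/-- `q ≡ 3 (mod 8)` gives `3 ∣ q`. -/
theorem three_dvd (hJ : JTData G t F) (h8 : Fintype.card F % 8 = 3) : 3 ∣ Fintype.card F := by
  obtain ⟨L, hL⟩ := exists_lfac hJ
  obtain ⟨a, S, V, i, s, y, T⟩ := exists_torus hL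
  have := T.mod_three
  rcases T.hq with ⟨-, e⟩ | ⟨h, -⟩ <;> omega

end Cfsg.Agent.AbelianSylow.Local
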