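import Cfsg.Agent.Lib.AbelianSylow.Targets
import Cfsg.Agent.Lib.AbelianSylow.Local.Torus

/-!
# The Janko-Thompson step: the arithmetic of the field (owner: helper56)

`threeTarget_of` : if the order `a` of the odd torus part is always `1 (mod 3)` (fixed-point-free action of the
element cycling the four group) and `q ≡ 5 (mod 24)`, `q ≥ 29` is impossible, then `q = 5` or `q = 3 ^ (2m+1)`.
-/

set_option autoImplicit false

namespace Cfsg.Agent.AbelianSylow.Three

open Cfsg AbelianSylow.Local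

universe u

/-- A prime power `q ≡ 3, 5 (mod 8)` with `(q ± 1) / 4 ≡ 1 (mod 3)`. -/
theorem field_cases {p n q a : ℕ} (hp : p.Prime) (hq : q = p ^ n) (h5 : 5 ≤ q)
    (hqa : (q % 8 = 3 ∧ q + 1 = 4 * a) ∨ (q % 8 = 5 ∧ q = 4 * a + 1)) (ha : a % 3 = 1) :
    q = 5 ∨ (q % 24 = 5 ∧ 29 ≤ q) ∨ ∃ m : ℕ, 1 ≤ m ∧ q = 3 ^ (2 * m + 1) := by
  rcases hqa with ⟨h8, e⟩ | ⟨h8, e⟩
  · refine Or.inr (Or.inr ?_)
    have h3 : 3 ∣ q := by omega
    rw [hq] at h3
    have hp3 : p = 3 :=
      ((Nat.prime_dvd_prime_iff_eq Nat.prime_three hp).1 (Nat.prime_three.dvd_of_dvd_pow h3)).symm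
    subst hp3
    rcases Nat.even_or_odd n with ⟨k, hk⟩ | ⟨k, hk⟩
    · exfalso
      have : (3 ^ (k + k)) % 8 = 1 := by
        rw [← two_mul, pow_mul, Nat.pow_mod]; norm_num
      rw [hq, hk] at h8
      omega
    · refine ⟨k, ?_, by rw [hq, hk]⟩
      rcases Nat.eq_zero_or_pos k with rfl | hk0
      · rw [hq, hk] at h5; norm_num at h5
      · exact hk0
  · rcases Nat.lt_or_ge q 29 with h | h
    · left; omega
    · exact Or.inr (Or.inl ⟨by omega, h⟩)

/-- Part (b) from the fixed-point-free action and the exclusion of `q ≡ 5 (mod 24)`, `q ≥ 29`. -/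
theorem threeTarget_of
    (hfix : ∀ (G : Type u) [Group G] [Finite G] (F : Type) [Field F] [Fintype F] (t : G) (L : Subgroup G) (a : ℕ)
      (S : Sylow 2 G) (V : Subgroup G) (i s y : G), Torus F t L a S V i s y → a % 3 = 1)
    (hfive : ∀ (G : Type u) [Group G] [Finite G] (t : G) (F : Type) [Field F] [Fintype F], JTData G t F →
      Fintype.card F % 24 = 5 → 29 ≤ Fintype.card F → False) : ThreeTarget.{u} := by
  intro G _ _ t F _ _ h
  obtain ⟨L, hL⟩ := exists_lfac h
  obtain ⟨a, S, V, i, s, y, T⟩ := exists_torus hL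
  obtain ⟨n, hp, hq⟩ := FiniteField.card F (ringChar F)
  rcases field_cases hp hq h.five T.hq (hfix G F t L a S V i s y T) with e | ⟨e, e'⟩ | e
  · exact Or.inl e
  · exact (hfive G t F h e e').elim
  · exact Or.inr e

end Cfsg.Agent.AbelianSylow.Three
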