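import Cfsg.Agent.Lib.AbelianSylow.Three.Fpf
import Cfsg.Agent.Lib.AbelianSylow.Three.Cases

/-!
# Part (b), up to the exclusion of `q ≡ 5 (mod 24)`, `q ≥ 29` (owner: helper88)
-/

set_option autoImplicit false

namespace Cfsg.Agent.AbelianSylow.Three

open Cfsg AbelianSylow.Local

universe u

/-- Part (b) from the exclusion of `q ≡ 5 (mod 24)`, `q ≥ 29`. -/
theorem threeTarget_of_five
    (hfive : ∀ (G : Type u) [Group G] [Finite G] (t : G) (F : Type) [Field F] [Fintype F], JTData G t F →
      Fintype.card F % 24 = 5 → 29 ≤ Fintype.card F → False) : ThreeTarget.{u} :=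
  threeTarget_of (fun _ _ _ _ _ _ _ _ _ _ _ _ _ _ T => T.mod_three) hfive

end Cfsg.Agent.AbelianSylow.Three
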