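import Cfsg.Agent.Lib.AbelianSylow.Three.ThreeCent

/-!
# An element of order three cycling `t, i, ti` (owner: helper88)

`C : Cyc w s'`: `w³ = 1`, `w : t ↦ i ↦ t i`, `w` fixes `s' ∈ S` outside `⟨t⟩ × ⟨y⟩`, `s'` inverts `A`.
-/

set_option autoImplicit false
set_option linter.unusedSectionVars false
set_option linter.style.haveILetI false

namespace Cfsg.Agent.AbelianSylow.Local

open Cfsg Subgroup AbelianTwoPSL Involution

universe u

variable {G : Type u} [Group G] [Finite G] {F : Type} [Field F] [Fintype F]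
variable {t : G} {L : Subgroup G} {a : ℕ} {S : Sylow 2 G} {V : Subgroup G} {i s y : G}

/-- What is used of `w` and the involution it fixes. -/
structure Cyc (t i y w u : G) : Prop where
  order : orderOf w = 3
  wt : w * t * w⁻¹ = i
  wi : w * i * w⁻¹ = t * i
  wu : Commute w u
  ou : orderOf u = 2
  ut : Commute u t
  ui : Commute u i
  inv : ∀ x ∈ oddTor y, u * x * u⁻¹ = x⁻¹
  u_not : u ∉ tor t y

theorem Torus.mem_four_of_tor (T : Torus F t L a S V i s y) {z : G} (hz : z ∈ tor t y)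
    (hzS : z ∈ (S : Subgroup G)) : z ∈ four t i := by
  obtain ⟨e, he, x, hx, rfl⟩ := T.tor_split hz
  have hxS : x ∈ (S : Subgroup G) := (Subgroup.mul_mem_cancel_left _ (T.four_le_sylow he)).1 hzS
  have h2 : x * x = 1 := by
    have := (T.fac.data.sylow S).1.2 x hxS
    rwa [pow_two] at this
  rwa [PSL2.eq_one_of_sq (T.odd_oddTor hx) (by first | exact h2 | rw [pow_two, h2]), mul_one]

theorem Torus.s_not_mem_four (T : Torus F t L a S V i s y) : s ∉ four t i :=
  fun h => T.s_not_mem_tor (T.four_le_tor h)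

theorem Torus.exists_cyc (T : Torus F t L a S V i s y) : ∃ w u : G, Cyc t i y w u := by
  obtain ⟨r, hr, h1, h2, h3⟩ := T.exists_cycle
  -- a power of `r` of order three with the same action
  have hpow : ∀ k : ℕ, r ^ (3 * k) * t * (r ^ (3 * k))⁻¹ = t ∧ r ^ (3 * k) * i * (r ^ (3 * k))⁻¹ = i := by
    have ht3 : r ^ 3 * t * (r ^ 3)⁻¹ = t := by
      calc r ^ 3 * t * (r ^ 3)⁻¹ = r * (r * (r * t * r⁻¹) * r⁻¹) * r⁻¹ := by simp [pow_succ, mul_assoc, mul_inv_rev]
        _ = t := by rw [h1, h2, h3]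
    have hi3 : r ^ 3 * i * (r ^ 3)⁻¹ = i := by
      calc r ^ 3 * i * (r ^ 3)⁻¹ = r * (r * (r * i * r⁻¹) * r⁻¹) * r⁻¹ := by simp [pow_succ, mul_assoc, mul_inv_rev]
        _ = i := by rw [h2, h3, h1]
    intro k
    rw [pow_mul]
    exact ⟨mul_inv_eq_iff_eq_mul.2 (Commute.pow_left (mul_inv_eq_iff_eq_mul.1 ht3) k).eq,
      mul_inv_eq_iff_eq_mul.2 (Commute.pow_left (mul_inv_eq_iff_eq_mul.1 hi3) k).eq⟩
  have hact : ∀ j : ℕ, j % 3 = 1 → r ^ j * t * (r ^ j)⁻¹ = i ∧ r ^ j * i * (r ^ j)⁻¹ = t * i := by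
    intro j hj
    rw [show j = 3 * (j / 3) + 1 by omega, pow_succ']
    obtain ⟨e1, e2⟩ := hpow (j / 3)
    constructor
    · rw [show r * r ^ (3 * (j / 3)) * t * (r * r ^ (3 * (j / 3)))⁻¹ =
        r * (r ^ (3 * (j / 3)) * t * (r ^ (3 * (j / 3)))⁻¹) * r⁻¹ by group, e1, h1]
    · rw [show r * r ^ (3 * (j / 3)) * i * (r * r ^ (3 * (j / 3)))⁻¹ =
        r * (r ^ (3 * (j / 3)) * i * (r ^ (3 * (j / 3)))⁻¹) * r⁻¹ by group, e2, h2]
  have h168 : r ^ 168 = 1 := by
    have h : (⟨r, hr⟩ : normalizer ((S : Subgroup G) : Set G)) ^ Nat.card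
        (normalizer ((S : Subgroup G) : Set G)) = 1 := pow_card_eq_one'
    rw [T.fac.card_normalizer_sylow S] at h
    exact congrArg Subtype.val h
  set w := r ^ 112 with hw
  obtain ⟨hwt, hwi⟩ := hact 112 (by norm_num)
  have hw3 : w ^ 3 = 1 := by
    rw [hw, ← pow_mul, show 112 * 3 = 168 * 2 by norm_num, pow_mul, h168, one_pow]
  have hw1 : w ≠ 1 := fun e => T.t_ne_i (by
    rw [← hw, e] at hwt
    simpa using hwt)
  have hwo : orderOf w = 3 := orderOf_eq_prime hw3 hw1
  have hwN : w ∈ normalizer ((S : Subgroup G) : Set G) := pow_mem hr _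
  have hwS : ∀ z ∈ (S : Subgroup G), w * z * w⁻¹ ∈ (S : Subgroup G) := fun z hz =>
    (mem_normalizer_iff.1 hwN z).1 hz
  have hwti : w * (t * i) * w⁻¹ = t := by
    rw [← conj_mul, hwt, hwi, T.commute_ti.eq, ← mul_assoc, T.ii, one_mul]
  -- the fixed point off the four group
  have hsS : s ∈ (S : Subgroup G) := T.frame.memA T.sV
  set s1 := w * s * w⁻¹ with hs1
  set s2 := w * s1 * w⁻¹ with hs2
  have hs1S : s1 ∈ (S : Subgroup G) := hwS s hsS
  have hs2S : s2 ∈ (S : Subgroup G) := hwS s1 hs1S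
  have hw3' : w * s2 * w⁻¹ = s := by
    rw [hs2, hs1]
    calc w * (w * (w * s * w⁻¹) * w⁻¹) * w⁻¹ = w ^ 3 * s * (w ^ 3)⁻¹ := by simp [pow_succ, mul_assoc, mul_inv_rev]
      _ = s := by rw [hw3]; group
  set u := s * s1 * s2 with hu
  have hcomm := fun z hz z' hz' => sylow_comm T.fac.data S z hz z' hz'
  have huS : u ∈ (S : Subgroup G) := mul_mem (mul_mem hsS hs1S) hs2S
  have hwu : Commute w u := mul_inv_eq_iff_eq_mul.1 (by
    rw [hu, ← conj_mul, ← conj_mul, ← hs1, ← hs2, hw3', mul_assoc,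
      (hcomm s2 hs2S s hsS).eq, ← mul_assoc, (hcomm s1 hs1S s hsS).eq])
  have hss : s * s = 1 := T.frame.sq_V T.sV
  -- the four group is stable, so `u` is outside it
  have huE : u ∉ four t i := by
    intro hmem
    have hwE : ∀ e ∈ four t i, w * e * w⁻¹ = e → e = 1 := by
      intro e he hfix
      rcases T.four_cases he with rfl | rfl | rfl | rfl
      · rfl
      · exact absurd (hwt.symm.trans hfix).symm T.t_ne_i
      · exfalso
        exact (Involution.ne_one T.fac.ctx.ht) (mul_eq_right.1 (hwi.symm.trans hfix))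
      · exfalso
        exact T.i_ne (mul_eq_left.1 (hwti.symm.trans hfix).symm)
    have hu1 : u = 1 := hwE u hmem (mul_inv_eq_iff_eq_mul.2 hwu.eq)
    have w_pull : ∀ z : G, w * z * w⁻¹ ∈ four t i → z ∈ four t i := by
      intro z hz
      have ht : t ∈ four t i := le_sup_left (b := zpowers i) (mem_zpowers t)
      have hi : i ∈ four t i := le_sup_right (a := zpowers t) (mem_zpowers i)
      have key : ∀ e e' : G, e' ∈ four t i → w * e' * w⁻¹ = e → w * z * w⁻¹ = e → z ∈ four t i :=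
        fun e e' he' h1 h2 => (mul_left_cancel (mul_right_cancel (h2.trans h1.symm))) ▸ he'
      rcases T.four_cases hz with e | e | e | e
      · exact key 1 1 (one_mem _) (by group) e
      · exact key t (t * i) (mul_mem ht hi) hwti e
      · exact key i t ht hwt e
      · exact key (t * i) i hi hwi e
    -- `s * w s w⁻¹ ∈ E` as `w` acts trivially on `S / E`
    have hdiff : s * s1 ∈ four t i := by
      rcases T.cent_four (hcomm s1 hs1S t T.frame.htA) (hcomm s1 hs1S i (T.frame.memA T.iV)) with hm | hm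
      · exact absurd (w_pull s (T.mem_four_of_tor hm hs1S)) T.s_not_mem_four
      · exact T.mem_four_of_tor hm (mul_mem hsS hs1S)
    have hs2E : s2 ∈ four t i := by
      rw [hu] at hu1
      rw [eq_inv_of_mul_eq_one_right hu1]
      exact inv_mem hdiff
    exact T.s_not_mem_four (w_pull s (w_pull s1 hs2E))
  have hut : Commute u t := hcomm u huS t T.frame.htA
  have hui : Commute u i := hcomm u huS i (T.frame.memA T.iV)
  have hutor : u ∉ tor t y := fun h => huE (T.mem_four_of_tor h huS)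
  refine ⟨w, u, hwo, hwt, hwi, hwu, orderOf_eq_prime ((T.fac.data.sylow S).1.2 u huS)
    (fun e => huE (e ▸ one_mem _)), hut, hui, fun x hx => ?_, hutor⟩
  rcases T.cent_four hut hui with h | h
  · exact absurd h hutor
  · set z := s * u with hz
    have e : u = s * z := by rw [hz, ← mul_assoc, hss, one_mul]
    rw [e, show s * z * x * (s * z)⁻¹ = s * (z * x * z⁻¹) * s⁻¹ by group,
      (T.tor_comm h (T.oddTor_le_tor hx)).eq, mul_inv_cancel_right, T.s_inv hx]

end Cfsg.Agent.AbelianSylow.Local
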