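import Cfsg.Agent.EqLemmas
import Mathlib

/-!
# Two lemmas for the fixed-point-free action on the torus (owner: helper88)

* `sq_card_fixed_mod` : an involutive automorphism of a group of odd order inverting a self-centralising
  TI subgroup `A` without fusion has `c² = 1 (mod |A|)`, `c` the number of fixed points
* `card_odd_ne_fifteen` : a group of order dividing 60 with a self-centralising four group has no
  subgroup of order 15
-/

set_option autoImplicit false
set_option linter.unusedSectionVars false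

namespace Cfsg.Agent.AbelianSylow.Three

open Subgroup

variable {G : Type*} [Group G] [Finite G]

theorem exists_pow_sq (hodd : Odd (Nat.card G)) (y : G) : (y ^ ((Nat.card G + 1) / 2)) ^ 2 = y := by
  obtain ⟨k, hk⟩ := hodd
  rw [← pow_mul, show (Nat.card G + 1) / 2 * 2 = Nat.card G + 1 by omega, pow_succ, pow_card_eq_one',
    one_mul]

theorem eq_one_of_sq (hodd : Odd (Nat.card G)) {y : G} (hy : y * y = 1) : y = 1 := by
  have h := exists_pow_sq hodd y
  rw [← h, ← pow_mul, mul_comm, pow_mul, pow_two, hy, one_pow]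

/-- The fixed and the inverted elements of an invariant subgroup. -/
theorem card_inverted_mul (hodd : Odd (Nat.card G)) (σ : G ≃* G) (hσ : ∀ g, σ (σ g) = g) (H : Subgroup G)
    (hH : ∀ g ∈ H, σ g ∈ H) :
    Nat.card {g : G // g ∈ H ∧ σ g = g⁻¹} * Nat.card {g : G // g ∈ H ∧ σ g = g} = Nat.card H := by
  set k := (Nat.card G + 1) / 2 with hk
  have hy : ∀ g : G, σ (g * (σ g)⁻¹) = (g * (σ g)⁻¹)⁻¹ := fun g => by
    rw [map_mul, map_inv, hσ, mul_inv_rev, inv_inv]
  rw [← Nat.card_prod]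
  refine Nat.card_congr
    { toFun := fun p => ⟨(p.1 : G) ^ k * p.2, mul_mem (pow_mem p.1.2.1 _) p.2.2.1⟩
      invFun := fun g => (⟨g * (σ g)⁻¹, mul_mem g.2 (inv_mem (hH g g.2)), hy g⟩,
        ⟨((g * (σ g)⁻¹ : G) ^ k)⁻¹ * g,
          mul_mem (inv_mem (pow_mem (mul_mem g.2 (inv_mem (hH g g.2))) _)) g.2, ?_⟩)
      left_inv := ?_
      right_inv := fun g => Subtype.ext (mul_inv_cancel_left _ _) }
  · have h2 := exists_pow_sq hodd ((g : G) * (σ g)⁻¹)
    rw [← hk, pow_two] at h2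
    set r := ((g : G) * (σ g)⁻¹) ^ k with hr
    have hσr : σ r = r⁻¹ := by rw [hr, map_pow, hy, inv_pow]
    rw [map_mul, map_inv, hσr, inv_inv]
    have h3 : σ g = r⁻¹ * r⁻¹ * g := by
      rw [← mul_inv_rev, h2, mul_inv_rev, inv_inv, mul_assoc, inv_mul_cancel, mul_one]
    rw [h3]; group
  · rintro ⟨⟨y, hyH, hy1⟩, ⟨c, hcH, hc⟩⟩
    have h2 := exists_pow_sq hodd y
    rw [← hk, pow_two] at h2
    have e : y ^ k * c * (σ (y ^ k * c))⁻¹ = y := by
      rw [map_mul, map_pow, hy1, hc, inv_pow, mul_inv_rev, inv_inv, mul_assoc, mul_inv_cancel_left, h2]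
    refine Prod.ext (Subtype.ext e) (Subtype.ext ?_)
    show ((y ^ k * c * (σ (y ^ k * c))⁻¹) ^ k)⁻¹ * (y ^ k * c) = c
    rw [e, inv_mul_cancel_left]

section
variable {A : Subgroup G} (hfus : ∀ a ∈ A, a ≠ 1 → ∀ g : G, g * a * g⁻¹ ∈ A → g ∈ A)
include hfus

/-- A TI subgroup without fusion has index `1` modulo its order. -/
theorem index_mod : A.index % Nat.card A = 1 % Nat.card A := by
  classical
  let x₀ : G ⧸ A := QuotientGroup.mk 1
  have key : ∀ (a : A) (x : G ⧸ A), (a : G) • x = x → x ≠ x₀ → a = 1 := by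
    intro a x hx hne
    obtain ⟨g, rfl⟩ := QuotientGroup.mk_surjective x
    by_contra ha
    have h1 : ((a : G) * g)⁻¹ * g ∈ A := QuotientGroup.eq.1 hx
    have h2 : g⁻¹ * (a : G) * g⁻¹⁻¹ ∈ A := by
      have := inv_mem h1
      simpa [mul_assoc] using this
    have h3 := hfus a a.2 (fun e => ha (Subtype.ext e)) g⁻¹ h2
    refine hne (QuotientGroup.eq.2 ?_)
    simpa using inv_mem h3
  have hinv : ∀ a : A, ∀ x : G ⧸ A, x ≠ x₀ → (a : G) • x ≠ x₀ := by
    intro a x hx e
    refine hx ?_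
    have h0 : (a : G) • x₀ = x₀ := QuotientGroup.eq.2 (by simp)
    exact MulAction.injective (a : G) (e.trans h0.symm)
  let T := {x : G ⧸ A // x ≠ x₀}
  letI : MulAction A T :=
    { smul := fun a x => ⟨(a : G) • x.1, hinv a x.1 x.2⟩
      one_smul := fun x => Subtype.ext (one_smul G x.1)
      mul_smul := fun a b x => Subtype.ext (mul_smul (a : G) (b : G) x.1) }
  have hstab : ∀ x : T, MulAction.stabilizer A x = ⊥ := fun x => (Subgroup.eq_bot_iff_forall _).2
    fun a ha => key a x.1 (congrArg Subtype.val ha) x.2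
  have h1 := Nat.card_congr (MulAction.selfEquivOrbitsQuotientProd hstab)
  rw [Nat.card_prod] at h1
  have h2 : A.index = Nat.card T + 1 := by
    have := Fintype.ofFinite (G ⧸ A)
    rw [index_eq_card, Nat.card_eq_fintype_card, Nat.card_eq_fintype_card (α := T),
      Fintype.card_subtype_compl, Fintype.card_subtype_eq]
    have : 0 < Fintype.card (G ⧸ A) := Fintype.card_pos
    omega
  rw [h2, h1, Nat.mul_add_mod_self_right]

theorem index_coprime : A.index.Coprime (Nat.card A) := by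
  rw [Nat.coprime_iff_gcd_eq_one, Nat.gcd_comm, Nat.gcd_rec, index_mod hfus, ← Nat.gcd_rec, Nat.gcd_one_right]

end

open scoped IsMulCommutative in
/-- An involutive automorphism of a group of odd order inverting a TI subgroup without fusion. -/
theorem sq_card_fixed_mod (hodd : Odd (Nat.card G)) (σ : G ≃* G) (hσ : ∀ g, σ (σ g) = g) (A : Subgroup G)
    (hinv : ∀ a ∈ A, σ a = a⁻¹) (hfus : ∀ a ∈ A, a ≠ 1 → ∀ g : G, g * a * g⁻¹ ∈ A → g ∈ A) :
    Nat.card {g : G // σ g = g} ^ 2 % Nat.card A = 1 % Nat.card A := by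
  classical
  rcases eq_or_ne (Nat.card A) 1 with h1 | h1
  · simp [h1, Nat.mod_one]
  haveI : IsMulCommutative A := ⟨⟨fun a b => Subtype.ext (by
    have h := hinv _ (mul_mem a.2 b.2)
    rw [map_mul, hinv _ a.2, hinv _ b.2, ← mul_inv_rev, inv_inj] at h
    exact h.symm)⟩⟩
  set φ := MonoidHom.transfer (MonoidHom.id A) with hφ
  have hkey : ∀ a : A, ∀ (k : ℕ) (g₀ : G), g₀⁻¹ * (a : G) ^ k * g₀ ∈ A →
      g₀⁻¹ * (a : G) ^ k * g₀ = (a : G) ^ k := by
    intro a k g hm
    by_cases hk : (a : G) ^ k = 1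
    · rw [hk]; group
    have hg := hfus _ (pow_mem a.2 k) hk g⁻¹ (by rwa [inv_inv])
    have hc : (a : G) ^ k * g = g * (a : G) ^ k :=
      congrArg Subtype.val (mul_comm' (⟨_, pow_mem a.2 k⟩ : A) ⟨g, by simpa using inv_mem hg⟩)
    rw [mul_assoc, hc, inv_mul_cancel_left]
  have hφa : ∀ a : A, φ a = a ^ A.index := fun a => by
    rw [hφ, MonoidHom.transfer_eq_pow (MonoidHom.id A) (a : G) (hkey a)]
    exact Subtype.ext rfl
  have hφinj : ∀ a : A, φ a = 1 → a = 1 := fun a ha => by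
    have hd : orderOf a ∣ A.index := orderOf_dvd_of_pow_eq_one (by rw [← hφa, ha])
    exact orderOf_eq_one_iff.1 (Nat.eq_one_of_dvd_coprimes (index_coprime hfus) hd (orderOf_dvd_natCard a))
  have hsurj : Function.Surjective φ := fun b => by
    obtain ⟨a, ha⟩ := (powCoprime (index_coprime hfus).symm).surjective b
    exact ⟨a, by rw [hφa]; exact ha⟩
  set K := φ.ker with hK
  have hKcard : Nat.card K = A.index := by
    have h2 := K.card_mul_index
    rw [hK, index_ker, MonoidHom.range_eq_top.2 hsurj, card_top, ← A.card_mul_index,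
      mul_comm (Nat.card A)] at h2
    exact Nat.eq_of_mul_eq_mul_right Nat.card_pos h2
  have hKmem : ∀ g : G, g ∈ K ↔ g ^ A.index = 1 := fun g => by
    refine ⟨fun hg => ?_, fun hg => ?_⟩
    · rw [← hKcard]
      exact congrArg Subtype.val (pow_card_eq_one' (x := (⟨g, hg⟩ : K)))
    · refine MonoidHom.mem_ker.2 (orderOf_eq_one_iff.1 (Nat.eq_one_of_dvd_coprimes (index_coprime hfus)
        (orderOf_dvd_of_pow_eq_one ?_) (orderOf_dvd_natCard _)))
      rw [← map_pow, hg, map_one]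
  have hKσ : ∀ g ∈ K, σ g ∈ K := fun g hg => (hKmem _).2 (by rw [← map_pow, (hKmem g).1 hg, map_one])
  -- the elements outside `K`
  let f : (G ⧸ A) × {a : A // a ≠ 1} → {g : G // g ∉ K} := fun p =>
    ⟨p.1.out * (p.2.1 : G) * p.1.out⁻¹, fun hm => p.2.2 (hφinj _ (by
      have h := MonoidHom.mem_ker.1 hm
      rwa [map_mul, map_mul, map_inv, mul_comm (φ p.1.out), mul_inv_cancel_right] at h))⟩
  have hf : Function.Bijective f := by
    refine (Nat.bijective_iff_injective_and_card f).2 ⟨?_, ?_⟩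
    · rintro ⟨q, a⟩ ⟨r, b⟩ e
      have e' : q.out * (a.1 : G) * q.out⁻¹ = r.out * (b.1 : G) * r.out⁻¹ := congrArg Subtype.val e
      have e2 : r.out⁻¹ * q.out * (a.1 : G) * (r.out⁻¹ * q.out)⁻¹ = b.1 := by
        calc r.out⁻¹ * q.out * (a.1 : G) * (r.out⁻¹ * q.out)⁻¹
            = r.out⁻¹ * (q.out * (a.1 : G) * q.out⁻¹) * r.out := by group
          _ = b.1 := by rw [e']; group
      have hm := hfus _ a.1.2 (fun e3 => a.2 (Subtype.ext e3)) _ (e2.symm ▸ b.1.2)
      have hqr : r = q := by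
        rw [← QuotientGroup.out_eq' r, ← QuotientGroup.out_eq' q]
        exact QuotientGroup.eq.2 hm
      subst hqr
      exact Prod.ext rfl (Subtype.ext (Subtype.ext (mul_left_cancel (mul_right_cancel e'))))
    · have := Fintype.ofFinite G
      rw [Nat.card_prod, ← index_eq_card, Nat.card_eq_fintype_card (α := {a : A // a ≠ 1}),
        Fintype.card_subtype_compl, Fintype.card_subtype_eq, Nat.card_eq_fintype_card (α := {g : G // g ∉ K}),
        Fintype.card_subtype_compl]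
      simp only [← Nat.card_eq_fintype_card]
      rw [show Nat.card {g : G // g ∈ K} = A.index from hKcard,
        ← A.card_mul_index, Nat.mul_sub, mul_comm A.index, mul_one]
  have hpair : ∀ (g : G) (a : A), a ≠ 1 → (σ (g * a * g⁻¹) = (g * a * g⁻¹)⁻¹ ↔ g⁻¹ * σ g ∈ A) := by
    intro g a ha
    rw [map_mul, map_mul, map_inv, hinv _ a.2,
      show (g * (a : G) * g⁻¹)⁻¹ = g * (a : G)⁻¹ * g⁻¹ by group]
    constructor
    · intro e
      refine hfus _ (inv_mem a.2) (fun e' => ha (Subtype.ext (inv_eq_one.1 e'))) _ ?_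
      have e2 : g⁻¹ * σ g * (a : G)⁻¹ * (g⁻¹ * σ g)⁻¹ = (a : G)⁻¹ := by
        calc g⁻¹ * σ g * (a : G)⁻¹ * (g⁻¹ * σ g)⁻¹ = g⁻¹ * (σ g * (a : G)⁻¹ * (σ g)⁻¹) * g := by group
          _ = _ := by rw [e]; group
      rw [e2]; exact inv_mem a.2
    · intro hm
      have hc : g⁻¹ * σ g * (a : G)⁻¹ = (a : G)⁻¹ * (g⁻¹ * σ g) :=
        congrArg Subtype.val (mul_comm' (⟨_, hm⟩ : A) ⟨_, inv_mem a.2⟩)
      calc σ g * (a : G)⁻¹ * (σ g)⁻¹ = g * (g⁻¹ * σ g * (a : G)⁻¹) * (σ g)⁻¹ := by group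
        _ = g * ((a : G)⁻¹ * (g⁻¹ * σ g)) * (σ g)⁻¹ := by rw [hc]
        _ = _ := by group
  have hfixK : ∀ g : G, σ g = g → g ∈ K := by
    intro c hc
    by_contra hn
    obtain ⟨⟨q, a, ha⟩, e⟩ := hf.2 ⟨c, hn⟩
    have e' : q.out * (a : G) * q.out⁻¹ = c := congrArg Subtype.val e
    rw [← e'] at hc
    rw [map_mul, map_mul, map_inv, hinv _ a.2] at hc
    set h := q.out⁻¹ * σ q.out with hh
    have h2 : h * (a : G)⁻¹ * h⁻¹ = a := by
      calc h * (a : G)⁻¹ * h⁻¹ = q.out⁻¹ * (σ q.out * (a : G)⁻¹ * (σ q.out)⁻¹) * q.out := by rw [hh]; group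
        _ = a := by rw [hc]; group
    have hm := hfus _ (inv_mem a.2) (fun e' => ha (Subtype.ext (inv_eq_one.1 e'))) h (h2.symm ▸ a.2)
    have hc' : h * (a : G)⁻¹ = (a : G)⁻¹ * h :=
      congrArg Subtype.val (mul_comm' (⟨_, hm⟩ : A) ⟨_, inv_mem a.2⟩)
    rw [hc', mul_inv_cancel_right] at h2
    exact ha (Subtype.ext (eq_one_of_sq hodd (inv_eq_iff_mul_eq_one.1 h2)))
  let C := {g : G // σ g = g}
  have hA2 : ∀ a : A, σ (a : G) = a → a = 1 := fun a ha => Subtype.ext (eq_one_of_sq hodd (by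
    rw [hinv _ a.2] at ha
    exact inv_eq_iff_mul_eq_one.1 ha))
  let Fx := {q : G ⧸ A // q.out⁻¹ * σ q.out ∈ A}
  have hout : ∀ g : G, g⁻¹ * σ g ∈ A → ∀ g' : G, g⁻¹ * g' ∈ A → g'⁻¹ * σ g' ∈ A := by
    intro g hg g' hg'
    rw [show g'⁻¹ * σ g' = (g⁻¹ * g')⁻¹ * (g⁻¹ * σ g) * σ (g⁻¹ * g') by rw [map_mul, map_inv]; group,
      hinv _ hg']
    exact mul_mem (mul_mem (inv_mem hg') hg) (inv_mem hg')
  have hFx : Nat.card Fx = Nat.card C := by
    refine (Nat.card_congr (Equiv.ofBijective (fun c : C => (⟨QuotientGroup.mk c.1,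
      hout c.1 (by rw [c.2, inv_mul_cancel]; exact one_mem _) _
        (QuotientGroup.eq.1 (QuotientGroup.out_eq' _).symm)⟩ : Fx)) ⟨?_, ?_⟩)).symm
    · rintro ⟨c, hc⟩ ⟨d, hd⟩ e
      have hm : c⁻¹ * d ∈ A := QuotientGroup.eq.1 (congrArg Subtype.val e)
      have := hA2 ⟨_, hm⟩ (by rw [map_mul, map_inv, hc, hd])
      exact Subtype.ext (inv_mul_eq_one.1 (congrArg Subtype.val this))
    · rintro ⟨q, hq⟩
      set a := q.out⁻¹ * σ q.out with ha
      set b := a ^ ((Nat.card G + 1) / 2) with hb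
      have hbA : b ∈ A := pow_mem hq _
      have hb2 : b * b = a := by rw [← pow_two]; exact exists_pow_sq hodd a
      refine ⟨⟨q.out * b, ?_⟩, Subtype.ext ?_⟩
      · rw [map_mul, hinv _ hbA, show σ q.out = q.out * a by rw [ha, mul_inv_cancel_left], ← hb2]
        group
      · show (QuotientGroup.mk (q.out * b) : G ⧸ A) = q
        rw [QuotientGroup.mk_mul_of_mem _ hbA, QuotientGroup.out_eq']
  have hall := card_inverted_mul hodd σ hσ ⊤ (fun _ _ => mem_top _)
  have hKc := card_inverted_mul hodd σ hσ K hKσ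
  rw [card_top, Nat.card_congr (Equiv.subtypeEquivRight (q := fun g : G => σ g = g⁻¹) fun g => by simp),
    Nat.card_congr (Equiv.subtypeEquivRight (p := fun g : G => g ∈ (⊤ : Subgroup G) ∧ σ g = g)
      (q := fun g : G => σ g = g) fun g => by simp)] at hall
  rw [Nat.card_congr (Equiv.subtypeEquivRight (p := fun g : G => g ∈ K ∧ σ g = g)
      (q := fun g : G => σ g = g) fun g => ⟨fun h => h.2, fun h => ⟨hfixK g h, h⟩⟩), hKcard] at hKc
  have hsplit : Nat.card {g : G // σ g = g⁻¹} =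
      Nat.card {g : G // g ∈ K ∧ σ g = g⁻¹} + Nat.card C * (Nat.card A - 1) := by
    have h3 : Nat.card {g : {g : G // g ∉ K} // σ g.1 = (g.1)⁻¹} = Nat.card C * (Nat.card A - 1) := by
      have e1 : {p : (G ⧸ A) × {a : A // a ≠ 1} // σ (f p).1 = ((f p).1)⁻¹} ≃ Fx × {a : A // a ≠ 1} :=
        { toFun := fun p => (⟨p.1.1, (hpair _ p.1.2.1 p.1.2.2).1 p.2⟩, p.1.2)
          invFun := fun p => ⟨(p.1.1, p.2), (hpair _ p.2.1 p.2.2).2 p.1.2⟩
          left_inv := fun p => rfl
          right_inv := fun p => rfl }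
      rw [← Nat.card_congr ((Equiv.ofBijective f hf).subtypeEquiv (p := fun p => σ (f p).1 = ((f p).1)⁻¹)
        fun p => Iff.rfl), Nat.card_congr e1, Nat.card_prod, hFx]
      have := Fintype.ofFinite G
      rw [Nat.card_eq_fintype_card (α := {a : A // a ≠ 1}), Fintype.card_subtype_compl,
        Fintype.card_subtype_eq, ← Nat.card_eq_fintype_card]
    rw [← h3, ← Nat.card_sum]
    exact Nat.card_congr ((Equiv.sumCompl fun g : {g : G // σ g = g⁻¹} => g.1 ∈ K).symm.trans
      (Equiv.sumCongr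
        ⟨fun g => ⟨g.1.1, g.2, g.1.2⟩, fun g => ⟨⟨g.1, g.2.2⟩, g.2.1⟩, fun g => rfl, fun g => rfl⟩
        ⟨fun g => ⟨⟨g.1.1, g.2⟩, g.1.2⟩, fun g => ⟨⟨g.1.1, g.2⟩, g.1.2⟩, fun g => rfl, fun g => rfl⟩))
  rw [hsplit, add_mul, hKc, ← A.card_mul_index] at hall
  have hk2 : A.index = Nat.card C ^ 2 := by
    obtain ⟨m, hm⟩ : ∃ m, Nat.card A = m + 2 := ⟨Nat.card A - 2, by
      have : 0 < Nat.card A := Nat.card_pos
      omega⟩
    rw [hm, show m + 2 - 1 = m + 1 from rfl] at hall
    have h4 : Nat.card C ^ 2 * (m + 1) = A.index * (m + 1) := by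
      refine Nat.add_left_cancel (n := A.index) ?_
      calc A.index + Nat.card C ^ 2 * (m + 1) = A.index + Nat.card C * (m + 1) * Nat.card C := by ring
        _ = (m + 2) * A.index := hall
        _ = A.index + A.index * (m + 1) := by ring
    exact (Nat.eq_of_mul_eq_mul_right (Nat.succ_pos m) h4).symm
  rw [← hk2]
  exact index_mod hfus

/-- A group of order dividing 60 with a self-centralising four group has no subgroup of order 15. -/
theorem card_odd_ne_fifteen {e f : G} (he : e * e = 1) (hf : f * f = 1) (hef : e * f = f * e)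
    (he1 : e ≠ 1) (hf1 : f ≠ 1) (hne : e ≠ f)
    (hcent : ∀ u ∈ ({e, f, e * f} : Set G), ∀ g : G, Commute g u → g * g = 1)
    (h60 : Nat.card G ∣ 60) (R : Subgroup G) : Nat.card R ≠ 15 := by
  classical
  intro hR
  have hG : 2 ∣ Nat.card G :=
    orderOf_eq_prime (by rw [pow_two, he]) he1 ▸ orderOf_dvd_natCard e
  haveI : Fact (Nat.Prime 2) := ⟨Nat.prime_two⟩
  have h4 : 4 ∣ Nat.card G := by
    set C := centralizer ({e} : Set G) with hC
    have hC2 : IsPGroup 2 C := fun g => ⟨1, Subtype.ext (by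
      rw [pow_one, pow_two]
      exact hcent e (by simp) _ (mem_centralizer_singleton_iff.1 g.2))⟩
    obtain ⟨k, hk⟩ := IsPGroup.iff_card.1 hC2
    have h3 : 3 ≤ Nat.card C := by
      have hfC : f ∈ C := mem_centralizer_singleton_iff.2 hef.symm
      have heC : e ∈ C := mem_centralizer_singleton_iff.2 rfl
      have : ({(1 : G), e, f} : Set G) ⊆ C := Set.insert_subset C.one_mem
        (Set.insert_subset heC (Set.singleton_subset_iff.2 hfC))
      have h := Set.ncard_le_ncard this (Set.toFinite _)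
      rwa [Set.ncard_eq_three.2 ⟨1, e, f, he1.symm, hf1.symm, hne, rfl⟩, ← Nat.card_coe_set_eq] at h
    refine dvd_trans ?_ C.card_subgroup_dvd_card
    rw [hk] at h3 ⊢
    rcases k with _ | _ | k <;> first | simp at h3 | exact ⟨2 ^ k, by ring⟩
  have h15 : 15 ∣ Nat.card G := hR ▸ R.card_subgroup_dvd_card
  have hG60 : Nat.card G = 60 := Nat.dvd_antisymm h60 (Nat.Coprime.mul_dvd_of_dvd_of_dvd
    (by norm_num : Nat.Coprime 4 15) h4 h15)
  have hidx : R.index = 4 := by
    have := R.card_mul_index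
    rw [hR, hG60] at this
    omega
  set π := MulAction.toPermHom G (G ⧸ R)
  have hker : π.ker = R.normalCore := (Subgroup.normalCore_eq_ker R).symm
  have hKodd : Odd (Nat.card π.ker) := by
    refine Odd.of_dvd_nat (by decide : Odd 15) (hR ▸ hker ▸ card_dvd_of_le R.normalCore_le)
  have hinv : ∀ u ∈ ({e, f, e * f} : Set G), u * u = 1 → ∀ k ∈ π.ker, u * k * u⁻¹ = k⁻¹ := by
    intro u hu hu2 k hk
    let ψ : π.ker ≃* π.ker := (MulAut.conjNormal u : MulAut π.ker)
    have hψ : ∀ x : π.ker, (ψ x : G) = u * x * u⁻¹ := fun x => MulAut.conjNormal_apply u x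
    have hfp : MonoidHom.FixedPointFree ψ := fun x hx => eq_one_of_sq hKodd (Subtype.ext (by
      refine hcent u hu _ (mul_inv_eq_iff_eq_mul.1 ?_).symm
      rw [← hψ, hx]))
    have hinvol : Function.Involutive ψ := fun x => Subtype.ext (by
      rw [hψ, hψ, inv_eq_of_mul_eq_one_right hu2]
      calc u * (u * x * u) * u = (u * u) * x * (u * u) := by group
        _ = x := by rw [hu2, one_mul, mul_one])
    have := congrFun (hfp.coe_eq_inv_of_involutive hinvol) ⟨k, hk⟩
    rw [← hψ ⟨k, hk⟩, this]; rfl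
  have hbot : π.ker = ⊥ := by
    refine (Subgroup.eq_bot_iff_forall _).2 fun k hk => ?_
    have h1 := hinv e (by simp) he k hk
    have h2 := hinv f (by simp) hf k hk
    have h3 := hinv (e * f) (by simp) (by
      calc e * f * (e * f) = e * (f * e) * f := by group
        _ = (e * e) * (f * f) := by rw [← hef]; group
        _ = 1 := by rw [he, hf, one_mul]) k hk
    have h4 : e * f * k * (e * f)⁻¹ = k := by
      calc e * f * k * (e * f)⁻¹ = e * (f * k * f⁻¹) * e⁻¹ := by group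
        _ = (e * k * e⁻¹)⁻¹ := by rw [h2]; group
        _ = k := by rw [h1, inv_inv]
    exact congrArg Subtype.val (eq_one_of_sq hKodd (y := (⟨k, hk⟩ : π.ker))
      (Subtype.ext (inv_eq_iff_mul_eq_one.1 (h3.symm.trans h4))))
  have hdvd := card_dvd_of_injective π ((MonoidHom.ker_eq_bot_iff π).1 hbot)
  rw [hG60, Nat.card_perm, ← index_eq_card, hidx] at hdvd
  norm_num [Nat.factorial] at hdvd

end Cfsg.Agent.AbelianSylow.Three
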