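import Cfsg.Agent.Lib.AbelianSylow.Local.CentA
import Cfsg.Agent.Lib.AbelianSylow.Three.Cycle
import Cfsg.Agent.Lib.AbelianSylow.Three.OddSub

/-!
# The centraliser of an element of `A` fixed by the three-cycle: common facts (owner: helper88)
-/

set_option autoImplicit false
set_option linter.unusedSectionVars false
set_option linter.style.haveILetI false

namespace Cfsg.Agent.AbelianSylow.Local

open Cfsg Subgroup AbelianTwoPSL Involution

universe u

variable {G : Type u} [Group G] [Finite G] {F : Type} [Field F] [Fintype F]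
variable {t : G} {L : Subgroup G} {a : ℕ} {S : Sylow 2 G} {V : Subgroup G} {i s y x w u : G}

theorem Torus.t_mem_four (_T : Torus F t L a S V i s y) : t ∈ four t i :=
  le_sup_left (b := zpowers i) (mem_zpowers t)

theorem Torus.i_mem_four (_T : Torus F t L a S V i s y) : i ∈ four t i :=
  le_sup_right (a := zpowers t) (mem_zpowers i)

theorem Torus.t_ne_one (T : Torus F t L a S V i s y) : t ≠ 1 :=
  fun e => T.frame.t_not_mem (e ▸ one_mem V)

theorem Cyc.w3 (C : Cyc t i y w u) : w ^ 3 = 1 := by rw [← C.order, pow_orderOf_eq_one]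

theorem Cyc.wti (C : Cyc t i y w u) (T : Torus F t L a S V i s y) : w * (t * i) * w⁻¹ = t := by
  rw [← conj_mul, C.wt, C.wi, T.commute_ti.eq, ← mul_assoc, T.ii, one_mul]

/-- An element of `C(t)` permuting the four group fixes `i`. -/
theorem Torus.fix_i (T : Torus F t L a S V i s y) {n : G} (hnt : Commute n t)
    (hni : n * i * n⁻¹ ∈ four t i) : Commute n i := by
  have hL : n * i * n⁻¹ ∈ L := T.fac.ctx.conj_mem hnt (T.frame.memE₀ T.iV)
  rcases T.four_cases hni with e | e | e | e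
  · exact absurd (conj_eq_one_iff.1 e) T.i_ne
  · exact absurd (e ▸ hL) T.fac.ctx.htE
  · exact mul_inv_eq_iff_eq_mul.1 e
  · exfalso
    have h2 := mul_mem (e ▸ hL : t * i ∈ L) (T.frame.memE₀ T.iV)
    rw [mul_assoc, T.ii, mul_one] at h2
    exact T.fac.ctx.htE h2

/-- An element normalising the four group maps a fixed point of `w` in `A` to itself or its inverse. -/
theorem Torus.conj_fixed (T : Torus F t L a S V i s y) (C : Cyc t i y w u) (hx : x ∈ oddTor y)
    (hwx : Commute w x) {n : G} (hn : ∀ e ∈ four t i, n * e * n⁻¹ ∈ four t i) :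
    n * x * n⁻¹ = x ∨ n * x * n⁻¹ = x⁻¹ := by
  have hti := mul_mem T.t_mem_four T.i_mem_four
  have hw' : ∀ e ∈ four t i, w * e * w⁻¹ ∈ four t i := by
    intro e he
    rcases T.four_cases he with rfl | rfl | rfl | rfl
    · simp
    · rw [C.wt]; exact T.i_mem_four
    · rw [C.wi]; exact hti
    · rw [C.wti T]; exact T.t_mem_four
  have key : ∀ m : G, (∀ e ∈ four t i, m * e * m⁻¹ ∈ four t i) → m * t * m⁻¹ = t →
      m * x * m⁻¹ = x ∨ m * x * m⁻¹ = x⁻¹ := by
    intro m hm hmt
    have hmt' : Commute m t := mul_inv_eq_iff_eq_mul.1 hmt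
    rcases T.cent_four hmt' (T.fix_i hmt' (hm i T.i_mem_four)) with h | h
    · left
      rw [(T.tor_comm h (T.oddTor_le_tor hx)).eq, mul_inv_cancel_right]
    · right
      have hss : s * s = 1 := T.frame.sq_V T.sV
      have e : m = s * (s * m) := by rw [← mul_assoc, hss, one_mul]
      rw [e, show s * (s * m) * x * (s * (s * m))⁻¹ = s * ((s * m) * x * (s * m)⁻¹) * s⁻¹ by group,
        (T.tor_comm h (T.oddTor_le_tor hx)).eq, mul_inv_cancel_right, T.s_inv hx]
  have hstep : ∀ m : G, (∀ e ∈ four t i, m * e * m⁻¹ ∈ four t i) →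
      (w * m) * x * (w * m)⁻¹ = x ∨ (w * m) * x * (w * m)⁻¹ = x⁻¹ →
      m * x * m⁻¹ = x ∨ m * x * m⁻¹ = x⁻¹ := by
    intro m _ h
    have hw : ∀ z : G, Commute w z → w * (m * x * m⁻¹) * w⁻¹ = z → m * x * m⁻¹ = z := fun z hz h =>
      mul_left_cancel (mul_right_cancel (h.trans (by rw [hz.eq, mul_inv_cancel_right] : z = w * z * w⁻¹)))
    rw [show w * m * x * (w * m)⁻¹ = w * (m * x * m⁻¹) * w⁻¹ by group] at h
    exact h.imp (hw x hwx) (hw x⁻¹ hwx.inv_right)
  have hwn : ∀ m : G, (∀ e ∈ four t i, m * e * m⁻¹ ∈ four t i) →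
      ∀ e ∈ four t i, (w * m) * e * (w * m)⁻¹ ∈ four t i := fun m hm e he => by
    rw [show w * m * e * (w * m)⁻¹ = w * (m * e * m⁻¹) * w⁻¹ by group]
    exact hw' _ (hm e he)
  rcases T.four_cases (hn t T.t_mem_four) with e | e | e | e
  · exact absurd (conj_eq_one_iff.1 e) T.t_ne_one
  · exact key n hn e
  · refine hstep n hn (hstep (w * n) (hwn n hn) (key _ (hwn _ (hwn n hn)) ?_))
    rw [show w * (w * n) * t * (w * (w * n))⁻¹ = w * (w * (n * t * n⁻¹) * w⁻¹) * w⁻¹ by group, e, C.wi, C.wti T]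
  · refine hstep n hn (key _ (hwn n hn) ?_)
    rw [show w * n * t * (w * n)⁻¹ = w * (n * t * n⁻¹) * w⁻¹ by group, e, C.wti T]

/-- An odd element mapping a fixed point of `w` in `A#` into `A` centralises it. -/
theorem Torus.commute_of_conj_fixed (T : Torus F t L a S V i s y) (C : Cyc t i y w u) (hx : x ∈ oddTor y)
    (hx1 : x ≠ 1) (hwx : Commute w x) {g : G} (hg : g * x * g⁻¹ ∈ oddTor y) (hodd : Odd (orderOf g)) :
    Commute g x := by
  haveI : Fact (Nat.Prime 2) := ⟨Nat.prime_two⟩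
  set X := centralizer ({x} : Set G) with hX
  obtain ⟨P, hP⟩ := T.sylow_cent hx hx1
  -- `g` normalises `X`
  have hsub : zpowers (g * x * g⁻¹) = zpowers x := by
    have e1 : zpowers (g * x * g⁻¹) ≤ oddTor y := zpowers_le.2 hg
    have e2 : zpowers x ≤ oddTor y := zpowers_le.2 hx
    haveI : IsCyclic (oddTor y) := isCyclic_zpowers (y ^ 2)
    have key : ∀ H : Subgroup G, H ≤ oddTor y → ∀ z ∈ oddTor y, orderOf z ∣ Nat.card H → z ∈ H := by
      intro H hH z hz hd
      classical
      set H' := H.subgroupOf (oddTor y)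
      have hc : Nat.card H' = Nat.card H := Nat.card_congr (subgroupOfEquivOfLe hH).toEquiv
      have := Fintype.ofFinite (oddTor y)
      let X' : Finset (oddTor y) := Finset.univ.filter fun v => v ^ Nat.card H = 1
      let Z' : Finset (oddTor y) := (H' : Set (oddTor y)).toFinset
      have hZX : Z' ⊆ X' := fun v hv => by
        rw [Set.mem_toFinset] at hv
        refine Finset.mem_filter.2 ⟨Finset.mem_univ _, ?_⟩
        rw [← hc]
        exact congrArg Subtype.val (pow_card_eq_one' (x := (⟨v, hv⟩ : H')))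
      have hX' : X'.card ≤ Nat.card H := IsCyclic.card_pow_eq_one_le Nat.card_pos
      have hZ : Nat.card H ≤ Z'.card := by
        rw [Set.toFinset_card, ← Nat.card_eq_fintype_card, SetLike.coe_sort_coe, hc]
      have he := Finset.eq_of_subset_of_card_le hZX (hX'.trans hZ)
      have hm : (⟨z, hz⟩ : oddTor y) ∈ X' := Finset.mem_filter.2 ⟨Finset.mem_univ _,
        Subtype.ext (orderOf_dvd_iff_pow_eq_one.1 hd)⟩
      rw [← he, Set.mem_toFinset] at hm
      exact hm
    refine le_antisymm (zpowers_le.2 (key _ e2 _ hg ?_)) (zpowers_le.2 (key _ e1 _ hx ?_))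
    · rw [Nat.card_zpowers, orderOf_conj]
    · rw [Nat.card_zpowers, orderOf_conj]
  have hgX : ∀ z ∈ X, g * z * g⁻¹ ∈ X := by
    intro z hz
    obtain ⟨k, hk⟩ : x ∈ zpowers (g * x * g⁻¹) := hsub ▸ mem_zpowers x
    refine mem_centralizer_singleton_iff.2 ?_
    have h := (show Commute z x from mem_centralizer_singleton_iff.1 hz).map (MulAut.conj g).toMonoidHom
    simp only [MulEquiv.coe_toMonoidHom, MulAut.conj_apply] at h
    rw [← hk]
    exact (h.zpow_right k).eq
  have hEX : four t i ≤ X := T.four_le_tor.trans (T.tor_le_cent hx)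
  let ψ : four t i →* X :=
    { toFun := fun e => ⟨g * e * g⁻¹, hgX e (hEX e.2)⟩
      map_one' := Subtype.ext (by simp)
      map_mul' := fun e e' => Subtype.ext (by simp [mul_assoc]) }
  have hψ : IsPGroup 2 ψ.range := fun z => by
    obtain ⟨e, he⟩ := z.2
    refine ⟨1, Subtype.ext ?_⟩
    rw [Subgroup.coe_pow, ← he, ← map_pow, pow_one, pow_two,
      show e * e = 1 from Subtype.ext (T.frame.sq_A (T.four_le_sylow e.2)), map_one, Subgroup.coe_one]
  obtain ⟨Q, hQ⟩ := hψ.exists_le_sylow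
  obtain ⟨h, hh⟩ := MulAction.exists_smul_eq X Q P
  have hn : ∀ e ∈ four t i, ((h : G) * g) * e * ((h : G) * g)⁻¹ ∈ four t i := by
    intro e he
    have hm : h * ψ ⟨e, he⟩ * h⁻¹ ∈ (P : Subgroup X) := by
      rw [← hh, Sylow.coe_subgroup_smul]
      exact mem_map.2 ⟨_, hQ ⟨_, rfl⟩, rfl⟩
    rw [hP, mem_subgroupOf] at hm
    simpa [ψ, mul_assoc] using hm
  have hfix : ∀ z : G, Commute (h : G) z → (h : G) * (g * x * g⁻¹) * (h : G)⁻¹ = z → g * x * g⁻¹ = z :=
    fun z hz e => mul_left_cancel (mul_right_cancel (e.trans (by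
      rw [hz.eq, mul_inv_cancel_right] : z = (h : G) * z * (h : G)⁻¹)))
  have hhx : Commute (h : G) x := mem_centralizer_singleton_iff.1 h.2
  have hcase : g * x * g⁻¹ = x ∨ g * x * g⁻¹ = x⁻¹ := by
    have h' := T.conj_fixed C hx hwx hn
    rw [show (h : G) * g * x * ((h : G) * g)⁻¹ = (h : G) * (g * x * g⁻¹) * (h : G)⁻¹ by group] at h'
    exact h'.imp (hfix x hhx) (hfix x⁻¹ hhx.inv_right)
  rcases hcase with e | e
  · exact mul_inv_eq_iff_eq_mul.1 e
  · obtain ⟨k, hk⟩ := hodd
    have h2 : Commute (g ^ 2) x := mul_inv_eq_iff_eq_mul.1 (by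
      rw [pow_two, show g * g * x * (g * g)⁻¹ = g * (g * x * g⁻¹) * g⁻¹ by group, e]
      calc g * x⁻¹ * g⁻¹ = (g * x * g⁻¹)⁻¹ := by group
        _ = x := by rw [e, inv_inv])
    have e' : g = (g ^ 2) ^ (k + 1) := by
      rw [← pow_mul, show 2 * (k + 1) = orderOf g + 1 by omega, pow_succ, pow_orderOf_eq_one, one_mul]
    rw [e']
    exact h2.pow_left _

/-- `C(x) / A`. -/
theorem Torus.quot_facts (T : Torus F t L a S V i s y) (hx : x ∈ oddTor y) (hx1 : x ≠ 1)
    [((oddTor y).subgroupOf (centralizer ({x} : Set G))).Normal] :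
    Nat.card (↥(centralizer ({x} : Set G)) ⧸ (oddTor y).subgroupOf (centralizer ({x} : Set G))) ∣ 60 ∧
      ∀ R : Subgroup (↥(centralizer ({x} : Set G)) ⧸ (oddTor y).subgroupOf (centralizer ({x} : Set G))),
        Nat.card R ≠ 15 := by
  set X := centralizer ({x} : Set G) with hX
  set N := (oddTor y).subgroupOf X with hN
  have hA : oddTor y ≤ X := T.oddTor_le_tor.trans (T.tor_le_cent hx)
  have hcard : Nat.card (↥X ⧸ N) ∣ 60 := by
    have h := N.card_eq_card_quotient_mul_card_subgroup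
    have hNc : Nat.card N = a :=
      (Nat.card_congr (subgroupOfEquivOfLe hA).toEquiv).trans T.card_oddTor
    rw [hNc] at h
    rcases T.card_cent_oddTor hx hx1 with e | e | e <;>
      [exists 15; exists 5; exists 1] <;>
      · rw [e] at h
        have := Nat.eq_of_mul_eq_mul_right T.a_pos h
        omega
  refine ⟨hcard, fun R => ?_⟩
  have hE : four t i ≤ X := T.four_le_tor.trans (T.tor_le_cent hx)
  let π := QuotientGroup.mk' N
  have h1 : ∀ z : X, π z = 1 ↔ (z : G) ∈ oddTor y := fun z =>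
    (QuotientGroup.eq_one_iff z).trans Iff.rfl
  have hne : ∀ (e : G) (he : e ∈ four t i), e ≠ 1 → π ⟨e, hE he⟩ ≠ 1 := fun e he he1 h =>
    he1 (PSL2.eq_one_of_sq (T.odd_oddTor ((h1 _).1 h)) (by
      first | exact T.frame.sq_A (T.four_le_sylow he) | rw [pow_two]; exact T.frame.sq_A (T.four_le_sylow he)))
  have hsq : ∀ (e : G) (he : e ∈ four t i), π ⟨e, hE he⟩ * π ⟨e, hE he⟩ = 1 := fun e he => by
    rw [← map_mul]
    exact (h1 _).2 (show e * e ∈ oddTor y by rw [T.frame.sq_A (T.four_le_sylow he)]; exact one_mem _)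
  have hcent : ∀ (e : G) (he : e ∈ four t i), e ≠ 1 → ∀ g, Commute g (π ⟨e, hE he⟩) → g * g = 1 := by
    intro e he he1 g hg
    obtain ⟨z, rfl⟩ := QuotientGroup.mk'_surjective N g
    have hc : (z : G) * e * (z : G)⁻¹ * e⁻¹ ∈ oddTor y := (h1 (z * ⟨e, hE he⟩ * z⁻¹ * (⟨e, hE he⟩ : X)⁻¹)).1 (by
      rw [map_mul, map_mul, map_mul, map_inv, map_inv]
      change π z * _ * (π z)⁻¹ * _ = 1
      rw [show π z * π ⟨e, hE he⟩ = π ⟨e, hE he⟩ * π z from hg.eq, mul_inv_cancel_right, mul_inv_cancel])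
    set a' := (z : G) * e * (z : G)⁻¹ * e⁻¹ with ha'
    have hae : Commute a' e := T.tor_comm (T.oddTor_le_tor hc) (T.four_le_tor he)
    have hee : e * e = 1 := T.frame.sq_A (T.four_le_sylow he)
    have h2 : (a' * e) * (a' * e) = 1 := by
      rw [show a' * e = (z : G) * e * (z : G)⁻¹ by rw [ha', inv_mul_cancel_right]]
      calc (z : G) * e * (z : G)⁻¹ * ((z : G) * e * (z : G)⁻¹) = (z : G) * (e * e) * (z : G)⁻¹ := by group
        _ = 1 := by rw [hee, mul_one, mul_inv_cancel]
    rw [← pow_two, hae.mul_pow, pow_two, pow_two, hee, mul_one] at h2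
    have hz1 : a' = 1 := PSL2.eq_one_of_sq (T.odd_oddTor hc) (by
      first | exact h2 | rw [pow_two]; exact h2)
    have hze : Commute (z : G) e := mul_inv_eq_iff_eq_mul.1 (by
      rw [← inv_mul_cancel_right ((z : G) * e * (z : G)⁻¹) e, ← ha', hz1, one_mul])
    have hz : (z : G) ∈ tor t y := (T.cent_inf he he1 hx hx1).le
      ⟨z.2, mem_centralizer_singleton_iff.2 hze.eq⟩
    obtain ⟨e', he', v, hv, hzv⟩ := T.tor_split hz
    have hev : Commute e' v := T.tor_comm (T.four_le_tor he') (T.oddTor_le_tor hv)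
    rw [← map_mul]
    refine (h1 _).2 ?_
    show (z : G) * z ∈ oddTor y
    rw [hzv, ← pow_two, hev.mul_pow, pow_two, T.frame.sq_A (T.four_le_sylow he'), one_mul]
    exact pow_mem hv 2
  have hti := mul_mem T.t_mem_four T.i_mem_four
  have hmul : π ⟨t, hE T.t_mem_four⟩ * π ⟨i, hE T.i_mem_four⟩ = π ⟨t * i, hE hti⟩ := by
    rw [← map_mul]; rfl
  refine Three.card_odd_ne_fifteen (hsq t T.t_mem_four) (hsq i T.i_mem_four) ?_
    (hne t T.t_mem_four T.t_ne_one) (hne i T.i_mem_four T.i_ne) ?_ ?_ hcard R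
  · rw [← map_mul, ← map_mul]
    exact congrArg π (Subtype.ext T.commute_ti.eq)
  · intro h
    refine hne (t * i) hti T.ti_ne_one ?_
    rw [← hmul, h, hsq i T.i_mem_four]
  · intro v hv
    simp only [Set.mem_insert_iff, Set.mem_singleton_iff, hmul] at hv
    rcases hv with rfl | rfl | rfl
    exacts [hcent t T.t_mem_four T.t_ne_one, hcent i T.i_mem_four T.i_ne, hcent _ hti T.ti_ne_one]

end Cfsg.Agent.AbelianSylow.Local
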