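import Cfsg.Agent.Lib.AbelianSylow.Three.Fixed
import Cfsg.Agent.Lib.GWKlein.General.L2Facts

/-!
# `3 ∤ a` (owner: helper88)

If `3 ∣ a` then `w` is conjugate into `A`, the torus around `(u, w)` embeds in `C(x₁)/A`, so `a = 3`, and
`⟨x₁, w⟩` is a Sylow 3-subgroup in which `x₁` and `w` cannot be fused by its normaliser.
-/

set_option autoImplicit false
set_option linter.unusedSectionVars false
set_option linter.style.haveILetI false

namespace Cfsg.Agent.AbelianSylow.Local

open Cfsg Subgroup AbelianTwoPSL Involution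

universe u

variable {G : Type u} [Group G] [Finite G] {F : Type} [Field F] [Fintype F]
variable {t : G} {L : Subgroup G} {a : ℕ} {S : Sylow 2 G} {V : Subgroup G} {i s y w u : G}

theorem card_cent_conj (k z : G) :
    Nat.card (centralizer ({k * z * k⁻¹} : Set G)) = Nat.card (centralizer ({z} : Set G)) := by
  refine (Nat.card_congr ((MulAut.conj k).toEquiv.subtypeEquiv fun g => ?_)).symm
  rw [mem_centralizer_singleton_iff, mem_centralizer_singleton_iff]
  show g * z = z * g ↔ k * g * k⁻¹ * (k * z * k⁻¹) = k * z * k⁻¹ * (k * g * k⁻¹)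
  rw [conj_mul, conj_mul, mul_left_inj, mul_right_inj]

/-- An element of order `3` of `P` outside `⟨x⟩ ∪ ⟨w⟩`, as a product. -/
theorem pow_three_split {x w : G} (hx : x ^ 3 = 1) (hw : w ^ 3 = 1) (m n : ℕ) :
    x ^ m * w ^ n = x ^ (m % 3) * w ^ (n % 3) := by
  rw [pow_eq_pow_mod m hx, pow_eq_pow_mod n hw]

/-- The generators of the four lines of an elementary group of order nine. -/
def lineGen (x w : G) : Fin 4 → G := ![x, w, x * w, x * w ^ 2]

/-- The configuration forced by `a = 3` is impossible. -/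
theorem false_of_nine (hcomm : ∀ P : Sylow 2 G, ∀ p ∈ (P : Subgroup G), ∀ q ∈ (P : Subgroup G), Commute p q)
    {x w u k : G} (hx : orderOf x = 3) (hw : orderOf w = 3) (hxw : Commute w x)
    (hux : u * x * u⁻¹ = x⁻¹) (huw : Commute u w)
    (hX : ¬ 27 ∣ Nat.card (centralizer ({x} : Set G)))
    (hk : k⁻¹ * w * k = x ∨ k⁻¹ * w * k = x⁻¹) : False := by
  classical
  haveI : Fact (Nat.Prime 3) := ⟨Nat.prime_three⟩
  haveI : Fact (Nat.Prime 2) := ⟨Nat.prime_two⟩
  have hx3 : x ^ 3 = 1 := by rw [← hx, pow_orderOf_eq_one]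
  have hw3 : w ^ 3 = 1 := by rw [← hw, pow_orderOf_eq_one]
  have hx2 : x⁻¹ = x ^ 2 := inv_eq_of_mul_eq_one_right (by rw [← pow_succ', hx3])
  have hwx : ∀ m n : ℕ, Commute (w ^ n) (x ^ m) := fun m n => hxw.pow_pow n m
  have hxne : x ≠ 1 := fun e => by rw [e, orderOf_one] at hx; omega
  have hwne : w ≠ 1 := fun e => by rw [e, orderOf_one] at hw; omega
  -- `u` separates the two factors
  have huconj : ∀ m n : ℕ, u * (x ^ m * w ^ n) * u⁻¹ = x ^ (2 * m) * w ^ n := fun m n => by
    rw [← conj_mul, ← conj_pow, ← conj_pow, hux, huw.eq, mul_inv_cancel_right, hx2, ← pow_mul]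
  have hzero : ∀ m n : ℕ, x ^ m * w ^ n = 1 → m % 3 = 0 ∧ n % 3 = 0 := by
    intro m n h
    have h' := huconj m n
    rw [h, mul_one, mul_inv_cancel, two_mul, pow_add, mul_assoc, h, mul_one] at h'
    rw [← h', one_mul] at h
    exact ⟨Nat.mod_eq_zero_of_dvd (hx ▸ orderOf_dvd_of_pow_eq_one h'.symm),
      Nat.mod_eq_zero_of_dvd (hw ▸ orderOf_dvd_of_pow_eq_one h)⟩
  let P : Subgroup G :=
    { carrier := {z | ∃ m n : ℕ, z = x ^ m * w ^ n}
      one_mem' := ⟨0, 0, by simp⟩
      mul_mem' := by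
        rintro _ _ ⟨m, n, rfl⟩ ⟨m', n', rfl⟩
        exact ⟨m + m', n + n', by rw [pow_add, pow_add, (hwx m' n).mul_mul_mul_comm]⟩
      inv_mem' := by
        rintro _ ⟨m, n, rfl⟩
        refine ⟨2 * m, 2 * n, inv_eq_of_mul_eq_one_right ?_⟩
        rw [(hwx (2 * m) n).mul_mul_mul_comm, ← pow_add, ← pow_add, show m + 2 * m = 3 * m by ring,
          show n + 2 * n = 3 * n by ring, pow_mul, pow_mul, hx3, hw3, one_pow, one_pow, one_mul] }
  have hPmem : ∀ z ∈ P, ∃ m n : ℕ, m < 3 ∧ n < 3 ∧ z = x ^ m * w ^ n := by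
    rintro _ ⟨m, n, rfl⟩
    exact ⟨m % 3, n % 3, Nat.mod_lt _ (by norm_num), Nat.mod_lt _ (by norm_num), pow_three_split hx3 hw3 m n⟩
  have hxP : x ∈ P := ⟨1, 0, by simp⟩
  have hwP : w ∈ P := ⟨0, 1, by simp⟩
  have hP3 : IsPGroup 3 P := fun z => ⟨1, Subtype.ext (by
    obtain ⟨m, n, e⟩ := z.2
    rw [pow_one, Subgroup.coe_pow, e, (hwx m n).symm.mul_pow, ← pow_mul, ← pow_mul, mul_comm m, mul_comm n,
      pow_mul, pow_mul, hx3, hw3, one_pow, one_pow, one_mul, Subgroup.coe_one])⟩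
  have hPcard : 9 ≤ Nat.card P := by
    have : Function.Injective (fun p : Fin 3 × Fin 3 => (⟨x ^ (p.1 : ℕ) * w ^ (p.2 : ℕ), _, _, rfl⟩ : P)) := by
      rintro ⟨m, n⟩ ⟨m', n'⟩ e
      have e' : x ^ (m : ℕ) * w ^ (n : ℕ) = x ^ (m' : ℕ) * w ^ (n' : ℕ) := congrArg Subtype.val e
      have h := hzero (m + 2 * m') (n + 2 * n') (by
        rw [pow_add, pow_add, (hwx (2 * m') n).symm.mul_mul_mul_comm, e',
          (hwx (2 * m') n').mul_mul_mul_comm, ← pow_add, ← pow_add,
          show (m' : ℕ) + 2 * m' = 3 * m' by ring, show (n' : ℕ) + 2 * n' = 3 * n' by ring,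
          pow_mul, pow_mul, hx3, hw3, one_pow, one_pow, one_mul])
      have := m.2; have := n.2; have := m'.2; have := n'.2
      exact Prod.ext (Fin.ext (show (m : ℕ) = m' by omega)) (Fin.ext (show (n : ℕ) = n' by omega))
    have h := Nat.card_le_card_of_injective _ this
    simpa using h
  have hcardx2 : Nat.card (centralizer ({x⁻¹} : Set G)) = Nat.card (centralizer ({x} : Set G)) := by
    rw [← hux]; exact card_cent_conj u x
  have hcardw : Nat.card (centralizer ({w} : Set G)) = Nat.card (centralizer ({x} : Set G)) := by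
    rw [← card_cent_conj k⁻¹ w, inv_inv]
    rcases hk with e | e <;> rw [e]
    exact hcardx2
  -- the Sylow 3-subgroup
  obtain ⟨R, hR⟩ := hP3.exists_le_sylow
  have hRX : ∀ r ∈ (R : Subgroup G), Commute r x → r ∈ P := by
    intro r hr hrx
    set R' := (R : Subgroup G) ⊓ centralizer ({x} : Set G) with hR'
    have hle : P ≤ R' := fun z hz => ⟨hR hz, by
      obtain ⟨m, n, rfl⟩ := hz
      exact mem_centralizer_singleton_iff.2 (((Commute.refl x).pow_left m).mul_left (hxw.pow_left n)).eq⟩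
    obtain ⟨j, hj⟩ := IsPGroup.iff_card.1 (R.2.to_le (inf_le_left : R' ≤ R))
    have hj2 : j ≤ 2 := by
      by_contra hj2
      refine hX (dvd_trans ?_ (card_dvd_of_le (inf_le_right : R' ≤ centralizer ({x} : Set G))))
      rw [hj, show j = 3 + (j - 3) by omega, pow_add]
      exact dvd_mul_right _ _
    have hle9 : Nat.card R' ≤ 9 := hj ▸ (Nat.pow_le_pow_right (by norm_num) hj2)
    rw [eq_of_le_of_card_ge hle (hle9.trans hPcard)]
    exact ⟨hr, mem_centralizer_singleton_iff.2 hrx.eq⟩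
  have hRP : (R : Subgroup G) = P := by
    by_contra hne
    obtain ⟨j, hj⟩ := IsPGroup.iff_card.1 R.2
    -- a central element
    haveI : Nontrivial (R : Subgroup G) := ⟨⟨x, hR hxP⟩, 1, fun e => hxne (congrArg Subtype.val e)⟩
    haveI := R.2.center_nontrivial
    obtain ⟨z₀, hz₀⟩ := exists_prime_orderOf_dvd_card' (G := center (R : Subgroup G)) 3 (by
      obtain ⟨i, hi⟩ := IsPGroup.iff_card.1 (R.2.to_subgroup (center (R : Subgroup G)))
      have h1 : 1 < Nat.card (center (R : Subgroup G)) := Finite.one_lt_card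
      rw [hi] at h1 ⊢
      rcases i with _ | i
      · simp at h1
      · exact dvd_pow_self 3 i.succ_ne_zero)
    set z : G := ((z₀ : (R : Subgroup G)) : G) with hz
    have hzo : orderOf z = 3 := by rw [hz, orderOf_coe, orderOf_coe, hz₀]
    have hzR : ∀ r ∈ (R : Subgroup G), Commute z r := fun r hr =>
      (congrArg Subtype.val (mem_center_iff.1 z₀.2 ⟨r, hr⟩)).symm
    have hzP : z ∈ P := hRX z z₀.1.2 (hzR x (hR hxP))
    have hbig : ∀ r ∈ P, Nat.card (centralizer ({r} : Set G)) = Nat.card (centralizer ({z} : Set G)) →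
        ∃ m n : ℕ, 1 ≤ m ∧ m ≤ 2 ∧ 1 ≤ n ∧ n ≤ 2 ∧ r = x ^ m * w ^ n ∨ r = 1 := by
      intro r hr hcr
      have h27 : 27 ∣ Nat.card (R : Subgroup G) := by
        rcases Nat.lt_or_ge j 3 with h | h
        · exact absurd ((eq_of_le_of_card_ge hR (by
            rw [hj]
            exact (Nat.pow_le_pow_right (by norm_num) (by omega : j ≤ 2)).trans hPcard)).symm) hne
        · rw [hj, show j = 3 + (j - 3) by omega, pow_add]; exact dvd_mul_right _ _
      have hz27 : 27 ∣ Nat.card (centralizer ({z} : Set G)) := h27.trans (card_dvd_of_le fun r hr =>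
        mem_centralizer_singleton_iff.2 (hzR r hr).symm.eq)
      obtain ⟨m, n, hm, hn, rfl⟩ := hPmem r hr
      rw [← hcr] at hz27
      rcases Nat.eq_zero_or_pos m with rfl | hm0
      · rw [pow_zero, one_mul] at hz27 hcr ⊢
        rcases Nat.eq_zero_or_pos n with rfl | hn0
        · exact ⟨0, 0, Or.inr (pow_zero w)⟩
        · exfalso
          obtain rfl | rfl : n = 1 ∨ n = 2 := by omega
          · rw [pow_one, hcardw] at hz27; exact hX hz27
          · have e : w ^ 2 = w⁻¹ := (inv_eq_of_mul_eq_one_right (by rw [← pow_succ', hw3])).symm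
            rw [e, show centralizer ({w⁻¹} : Set G) = centralizer ({w} : Set G) by
              ext g
              simp only [mem_centralizer_singleton_iff]
              exact Commute.inv_right_iff (a := g) (b := w), hcardw] at hz27
            exact hX hz27
      · rcases Nat.eq_zero_or_pos n with rfl | hn0
        · exfalso
          rw [pow_zero, mul_one] at hz27
          obtain rfl | rfl : m = 1 ∨ m = 2 := by omega
          · rw [pow_one] at hz27; exact hX hz27
          · rw [← hx2, hcardx2] at hz27; exact hX hz27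
        · exact ⟨m, n, Or.inl ⟨hm0, by omega, hn0, by omega, rfl⟩⟩
    have hzne : z ≠ 1 := fun e => by rw [e, orderOf_one] at hzo; omega
    obtain ⟨m, n, ⟨hm1, hm2, hn1, hn2, hzmn⟩ | e⟩ := hbig z hzP rfl
    swap
    · exact hzne e
    set z' := x ^ (2 * m) * w ^ n with hz'
    have hz'c : Nat.card (centralizer ({z'} : Set G)) = Nat.card (centralizer ({z} : Set G)) := by
      rw [hz', ← huconj m n, card_cent_conj, hzmn]
    -- an element normalising `P`
    obtain ⟨g, hgR, hgP, hgn⟩ : ∃ g ∈ (R : Subgroup G), g ∉ P ∧ ∀ r ∈ P, g * r * g⁻¹ ∈ P := by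
      haveI := R.2.isNilpotent
      have hlt : P.subgroupOf (R : Subgroup G) < ⊤ := lt_top_iff_ne_top.2 fun e =>
        hne (le_antisymm (subgroupOf_eq_top.1 e) hR)
      obtain ⟨⟨g, hgR⟩, hgN, hgP⟩ := SetLike.exists_of_lt
        (Group.normalizerCondition_of_isNilpotent _ hlt)
      exact ⟨g, hgR, hgP, fun r hr => (mem_normalizer_iff.1 hgN ⟨r, hR hr⟩).1 hr⟩
    have hgo : Odd (orderOf g) := by
      obtain ⟨i, hi⟩ := IsPGroup.iff_orderOf.1 R.2 ⟨g, hgR⟩
      rw [show orderOf g = orderOf (⟨g, hgR⟩ : (R : Subgroup G)) from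
        Subgroup.orderOf_coe (⟨g, hgR⟩ : (R : Subgroup G)), hi]
      exact Odd.pow ⟨1, rfl⟩
    have hgz : Commute g z := (hzR g hgR).symm
    set r := g * z' * g⁻¹ with hr
    have hrP : r ∈ P := hgn z' ⟨_, _, rfl⟩
    have hrne : r ≠ 1 := fun e => by
      have := hzero (2 * m) n (conj_eq_one_iff.1 e)
      omega
    obtain ⟨m', n', ⟨a1, a2, b1, b2, hr'⟩ | e⟩ := hbig r hrP (by rw [hr, card_cent_conj, hz'c])
    swap
    · exact hrne e
    have hzz : z * z = x ^ (2 * m) * w ^ (2 * n) := by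
      rw [hzmn, (hwx m n).mul_mul_mul_comm, ← pow_add, ← pow_add, ← two_mul, ← two_mul]
    have hzz' : z' * z' = x ^ (4 * m) * w ^ (2 * n) := by
      rw [hz', (hwx (2 * m) n).mul_mul_mul_comm, ← pow_add, ← pow_add,
        show 2 * m + 2 * m = 4 * m by ring, show n + n = 2 * n by ring]
    have hinj : ∀ v : G, Commute g v → r = v → z' = v := fun v hv e =>
      mul_left_cancel (mul_right_cancel ((hr ▸ e).trans (by
        rw [hv.eq, mul_inv_cancel_right] : v = g * v * g⁻¹)))
    have hsep : z' ≠ z ∧ z' ≠ z * z := by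
      constructor <;> intro e
      · rw [hz', hzmn] at e
        have e2 := mul_right_cancel e
        rw [two_mul, pow_add, mul_eq_left] at e2
        have := hzero m 0 (by rw [pow_zero, mul_one, e2])
        omega
      · rw [hz', hzz] at e
        have e2 := mul_left_cancel e
        rw [two_mul, pow_add, eq_comm, mul_eq_left] at e2
        have := hzero 0 n (by rw [pow_zero, one_mul, e2])
        omega
    have hcases : r = z ∨ r = z * z ∨ r = z' ∨ r = z' * z' := by
      rw [hzz, hzz', hr', hzmn, hz']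
      simp only [pow_three_split hx3 hw3 (2 * m), pow_three_split hx3 hw3 (4 * m)]
      interval_cases m <;> interval_cases n <;> interval_cases m' <;> interval_cases n' <;> norm_num
    have hgz' : Commute g z' := by
      rcases hcases with e | e | e | e
      · exact absurd (hinj z hgz e) hsep.1
      · exact absurd (hinj (z * z) (hgz.mul_right hgz) e) hsep.2
      · exact mul_inv_eq_iff_eq_mul.1 (hr ▸ e)
      · obtain ⟨i, hi⟩ := hgo
        have h3 : z' ^ 3 = 1 := by
          rw [hz', (hwx (2 * m) n).symm.mul_pow, ← pow_mul, ← pow_mul, mul_comm (2 * m), mul_comm n,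
            pow_mul x 3, pow_mul w 3, hx3, hw3, one_pow, one_pow, one_mul]
        have e' : g * z' * g⁻¹ = z' * z' := hr ▸ e
        have h2 : Commute (g ^ 2) z' := mul_inv_eq_iff_eq_mul.1 (by
          rw [pow_two, show g * g * z' * (g * g)⁻¹ = g * (g * z' * g⁻¹) * g⁻¹ by group, e', ← conj_mul, e']
          calc z' * z' * (z' * z') = z' ^ 3 * z' := by simp [pow_succ, mul_assoc]
            _ = z' := by rw [h3, one_mul])
        rw [show g = (g ^ 2) ^ (i + 1) by
          rw [← pow_mul, show 2 * (i + 1) = orderOf g + 1 by omega, pow_succ, pow_orderOf_eq_one, one_mul]]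
        exact h2.pow_left _
    have hgx : Commute g x := by
      have h1 := hgz.mul_right hgz'.inv_right
      rw [hzmn, hz', mul_inv_rev, mul_assoc, mul_inv_cancel_left, ← zpow_natCast, ← zpow_natCast,
        ← zpow_neg, ← zpow_add] at h1
      obtain rfl | rfl : m = 1 ∨ m = 2 := by omega
      · have h2 := h1.zpow_right (-1)
        rw [← zpow_mul] at h2
        simpa using h2
      · have h2 := h1.zpow_right 1
        rw [← zpow_mul] at h2
        have h3 := h2.mul_right (Commute.one_right g)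
        rw [← hx3, ← zpow_natCast x 3, ← zpow_add] at h3
        simpa using h3
    exact hgP (hRX g hgR hgx)
  -- fusion in the normaliser
  haveI : IsMulCommutative (R : Subgroup G) := by
    rw [hRP]
    exact ⟨⟨fun p q => Subtype.ext (by
      obtain ⟨m, n, e⟩ := p.2
      obtain ⟨m', n', e'⟩ := q.2
      show (p : G) * q = q * p
      rw [e, e', (hwx m' n).mul_mul_mul_comm, (hwx m n').mul_mul_mul_comm, ← pow_add, ← pow_add, ← pow_add,
        ← pow_add, add_comm m, add_comm n])⟩⟩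
  set v := k⁻¹ * w * k with hv
  have hvP : v ∈ (R : Subgroup G) := by
    rcases hk with e | e <;> rw [e]
    exacts [hR hxP, inv_mem (hR hxP)]
  have huv : u * v * u⁻¹ = v⁻¹ := by
    rcases hk with e | e <;> rw [e]
    · exact hux
    · rw [show u * x⁻¹ * u⁻¹ = (u * x * u⁻¹)⁻¹ by group, hux]
  obtain ⟨n₀, hn₀, hn₁⟩ := R.conj_eq_normalizer_conj_of_mem v k⁻¹ hvP (by
    rw [hv, inv_inv, show k * (k⁻¹ * w * k) * k⁻¹ = w by group]; exact hR hwP)
  rw [inv_inv, hv, show k * (k⁻¹ * w * k) * k⁻¹ = w by group, ← hv] at hn₁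
  set N := normalizer ((R : Subgroup G) : Set G) with hN
  set m := n₀⁻¹ with hm
  have hmv : m * v * m⁻¹ = w := by rw [hm, inv_inv, ← hn₁]
  have hmN : m ∈ N := inv_mem hn₀
  have huN : u ∈ N := by
    refine Coprime.mem_normalizer_of_forall fun r hr => ?_
    rw [hRP] at hr ⊢
    obtain ⟨p, q, rfl⟩ := hr
    exact ⟨_, _, huconj p q⟩
  -- every element of `N` has order dividing 48 modulo `C(P)`
  have h48 : ∀ g ∈ N, Commute (g ^ 48) x ∧ Commute (g ^ 48) w := by
    intro g hg
    have hgP : ∀ r ∈ P, g * r * g⁻¹ ∈ P := fun r hr => by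
      rw [← hRP] at hr ⊢; exact (mem_normalizer_iff.1 hg r).1 hr
    let ℓ := lineGen x w
    have hℓP : ∀ l, ℓ l ∈ P := by
      intro l
      fin_cases l
      exacts [hxP, hwP, mul_mem hxP hwP, mul_mem hxP (pow_mem hwP 2)]
    have hℓ3 : ∀ l, ℓ l ^ 3 = 1 := fun l => by
      obtain ⟨p, q, e⟩ := hℓP l
      rw [e, (hwx p q).symm.mul_pow, ← pow_mul, ← pow_mul, mul_comm p, mul_comm q, pow_mul, pow_mul,
        hx3, hw3, one_pow, one_pow, one_mul]
    have hℓsq : ∀ l, (ℓ l) ^ 2 = (ℓ l)⁻¹ := fun l =>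
      (inv_eq_of_mul_eq_one_right (by rw [← pow_succ', hℓ3])).symm
    have hline : ∀ r ∈ P, r ≠ 1 → ∃ l, r = ℓ l ∨ r = ℓ l ^ 2 := by
      intro r hr hr1
      obtain ⟨p, q, hp, hq, rfl⟩ := hPmem r hr
      have e1 : (x * w) ^ 2 = x ^ 2 * w ^ 2 := hxw.symm.mul_pow 2
      have e2 : (x * w ^ 2) ^ 2 = x ^ 2 * w := by
        have h := (hwx 1 2).symm.mul_pow 2
        rw [pow_one] at h
        rw [h, ← pow_mul, show 2 * 2 = 3 + 1 from rfl, pow_succ w 3, hw3, one_mul]
      interval_cases p <;> interval_cases q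
      · simp at hr1
      · exact ⟨1, Or.inl (by simp [ℓ, lineGen])⟩
      · exact ⟨1, Or.inr (by simp [ℓ, lineGen])⟩
      · exact ⟨0, Or.inl (by simp [ℓ, lineGen])⟩
      · exact ⟨2, Or.inl (by simp [ℓ, lineGen])⟩
      · exact ⟨3, Or.inl (by simp [ℓ, lineGen])⟩
      · exact ⟨0, Or.inr (by simp [ℓ, lineGen])⟩
      · exact ⟨3, Or.inr (by simp [ℓ, lineGen, e2])⟩
      · exact ⟨2, Or.inr (by simp [ℓ, lineGen, e1])⟩
    have hℓinj : ∀ l l', (ℓ l = ℓ l' ∨ ℓ l = ℓ l' ^ 2) → l = l' := by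
      intro l l' h
      have key : ∃ c : ℕ, (c = 2 ∨ c = 1) ∧ ℓ l * ℓ l' ^ c = 1 := by
        rcases h with e | e
        · exact ⟨2, Or.inl rfl, by rw [e, ← pow_succ', hℓ3]⟩
        · exact ⟨1, Or.inr rfl, by rw [e, pow_one, ← pow_succ, hℓ3]⟩
      obtain ⟨c, hc, e⟩ := key
      have hexp : ∀ l, ℓ l = x ^ (![1, 0, 1, 1] l) * w ^ (![0, 1, 1, 2] l) := by
        intro l; fin_cases l <;> simp [ℓ, lineGen]
      rw [hexp l, hexp l', (hwx _ _).symm.mul_pow, ← pow_mul, ← pow_mul,
        (hwx _ _).mul_mul_mul_comm, ← pow_add, ← pow_add] at e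
      have := hzero _ _ e
      rcases hc with rfl | rfl <;> fin_cases l <;> fin_cases l' <;>
        first | rfl | (exfalso; simp at this) | (exfalso; omega)
    have hex : ∀ l, ∃ l', g * ℓ l * g⁻¹ = ℓ l' ∨ g * ℓ l * g⁻¹ = ℓ l' ^ 2 := fun l =>
      hline _ (hgP _ (hℓP l)) fun e => by
        have h1 : ℓ l = 1 := conj_eq_one_iff.1 e
        have hexp : ℓ l = x ^ (![1, 0, 1, 1] l) * w ^ (![0, 1, 1, 2] l) := by
          fin_cases l <;> simp [ℓ, lineGen]
        have := hzero _ _ (hexp.symm.trans h1)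
        fin_cases l <;> simp at this
    choose f hf using hex
    have hfinj : Function.Injective f := fun l l' e => hℓinj l l' (by
      have h1 := hf l
      have h2 := hf l'
      rw [← e] at h2
      have hback : ∀ (p q : G), g * p * g⁻¹ = g * q * g⁻¹ → p = q := fun p q h =>
        mul_left_cancel (mul_right_cancel h)
      rcases h1 with h1 | h1 <;> rcases h2 with h2 | h2
      · exact Or.inl (hback _ _ (h1.trans h2.symm))
      · exact Or.inr (hback _ _ (by
          rw [h1, ← conj_pow, h2, ← pow_mul, show 2 * 2 = 3 + 1 from rfl, pow_succ, hℓ3, one_mul]))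
      · exact Or.inr (hback _ _ (by rw [h1, ← conj_pow, h2]))
      · exact Or.inl (hback _ _ (h1.trans h2.symm)))
    let π : Equiv.Perm (Fin 4) := Equiv.ofBijective f (Finite.injective_iff_bijective.1 hfinj)
    have hpow : ∀ (j : ℕ) (l : Fin 4), g ^ j * ℓ l * (g ^ j)⁻¹ = ℓ ((π ^ j) l) ∨
        g ^ j * ℓ l * (g ^ j)⁻¹ = ℓ ((π ^ j) l) ^ 2 := by
      intro j
      induction j with
      | zero => intro l; exact Or.inl (by simp)
      | succ j ih =>
        intro l
        rw [pow_succ' g, show g * g ^ j * ℓ l * (g * g ^ j)⁻¹ = g * (g ^ j * ℓ l * (g ^ j)⁻¹) * g⁻¹ by group,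
          pow_succ' π]
        show _ = ℓ (f ((π ^ j) l)) ∨ _ = ℓ (f ((π ^ j) l)) ^ 2
        rcases ih l with e | e <;> rw [e]
        · exact hf _
        · rw [← conj_pow]
          rcases hf ((π ^ j) l) with e' | e' <;> rw [e']
          · exact Or.inr rfl
          · left
            rw [← pow_mul, show 2 * 2 = 3 + 1 from rfl, pow_succ, hℓ3, one_mul]
    have h24 : π ^ 24 = 1 := by
      have h := pow_card_eq_one' (x := π)
      rwa [Nat.card_perm, Nat.card_eq_fintype_card, Fintype.card_fin,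
        show Nat.factorial 4 = 24 from rfl] at h
    have hfix : ∀ l, Commute (g ^ 48) (ℓ l) := by
      intro l
      refine mul_inv_eq_iff_eq_mul.1 ?_
      have h := hpow 24 l
      rw [h24, Equiv.Perm.one_apply] at h
      rw [show (48 : ℕ) = 24 + 24 from rfl, pow_add,
        show g ^ 24 * g ^ 24 * ℓ l * (g ^ 24 * g ^ 24)⁻¹ =
          g ^ 24 * (g ^ 24 * ℓ l * (g ^ 24)⁻¹) * (g ^ 24)⁻¹ by group]
      rcases h with e | e
      · rw [e, e]
      · rw [e, ← conj_pow, e, ← pow_mul, show 2 * 2 = 3 + 1 from rfl, pow_succ, hℓ3, one_mul]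
    exact ⟨hfix 0, hfix 1⟩
  set Cn := (centralizer ((R : Subgroup G) : Set G)).subgroupOf N with hCn
  haveI : Cn.Normal := ⟨fun c hc g => by
    rw [hCn, mem_subgroupOf, mem_centralizer_iff] at hc ⊢
    intro r hr
    have h0 := (mem_normalizer_iff.1 (inv_mem g.2) r).1 hr
    rw [inv_inv] at h0
    have h1 := hc ((g : G)⁻¹ * r * g) h0
    show r * ((g : G) * c * (g : G)⁻¹) = (g : G) * c * (g : G)⁻¹ * r
    calc r * ((g : G) * c * (g : G)⁻¹) = (g : G) * ((g : G)⁻¹ * r * g * c) * (g : G)⁻¹ := by group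
      _ = (g : G) * (c * ((g : G)⁻¹ * r * g)) * (g : G)⁻¹ := by rw [h1]
      _ = _ := by group⟩
  have hQ3 : ¬ 3 ∣ Nat.card (N ⧸ Cn) := by
    rw [← index_eq_card]
    intro h
    refine R.not_dvd_index (h.trans ?_)
    refine (index_dvd_of_le (H := (R : Subgroup G).subgroupOf N) fun r hr => ?_).trans
      (Dvd.intro _ (relIndex_mul_index (le_normalizer (H := (R : Subgroup G)))))
    rw [hCn, mem_subgroupOf]
    exact Subgroup.le_centralizer (R : Subgroup G) hr
  have hQ2 : IsPGroup 2 (N ⧸ Cn) := by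
    refine IsPGroup.iff_orderOf.2 fun g => ?_
    obtain ⟨z, rfl⟩ := QuotientGroup.mk'_surjective Cn g
    have hd : orderOf (QuotientGroup.mk' Cn z) ∣ 48 := orderOf_dvd_of_pow_eq_one (by
      rw [← map_pow]
      refine (QuotientGroup.eq_one_iff _).2 ?_
      rw [hCn, mem_subgroupOf, mem_centralizer_iff]
      intro r hr
      rw [hRP] at hr
      obtain ⟨p, q, rfl⟩ := hr
      obtain ⟨h1, h2⟩ := h48 z z.2
      exact ((h1.pow_right p).mul_right (h2.pow_right q)).symm.eq)
    have hco : Nat.Coprime (orderOf (QuotientGroup.mk' Cn z)) 3 :=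
      (Nat.prime_three.coprime_iff_not_dvd.2 fun h => hQ3 (h.trans (_root_.orderOf_dvd_natCard _))).symm
    obtain ⟨i, -, hi⟩ := (Nat.dvd_prime_pow Nat.prime_two (m := 4)).1
      (hco.dvd_of_dvd_mul_right (show _ ∣ 2 ^ 4 * 3 from hd))
    exact ⟨i, hi⟩
  obtain ⟨T2⟩ : Nonempty (Sylow 2 N) := inferInstance
  have hsurj : ∀ g : N ⧸ Cn, ∃ z ∈ (T2 : Subgroup N), (QuotientGroup.mk' Cn) z = g := by
    intro g
    have h1 : ((T2.mapSurjective (QuotientGroup.mk'_surjective Cn)) : Subgroup (N ⧸ Cn)) = ⊤ := by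
      refine ((T2.mapSurjective (QuotientGroup.mk'_surjective Cn)).3
        (Q := ⊤) (IsPGroup.of_equiv hQ2 Subgroup.topEquiv.symm) le_top).symm
    rw [Sylow.coe_mapSurjective] at h1
    exact mem_map.1 (h1 ▸ mem_top g)
  obtain ⟨pu, hpu, epu⟩ := hsurj (QuotientGroup.mk' Cn ⟨u, huN⟩)
  obtain ⟨pm, hpm, epm⟩ := hsurj (QuotientGroup.mk' Cn ⟨m, hmN⟩)
  obtain ⟨Q, hQ⟩ := (T2.2.map N.subtype).exists_le_sylow
  have hc : pu * pm = pm * pu :=
    Subtype.ext (hcomm Q _ (hQ ⟨pu, hpu, rfl⟩) _ (hQ ⟨pm, hpm, rfl⟩)).eq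
  have hq : QuotientGroup.mk' Cn ⟨u * m, mul_mem huN hmN⟩ = QuotientGroup.mk' Cn ⟨m * u, mul_mem hmN huN⟩ := by
    have h := congrArg (QuotientGroup.mk' Cn) hc
    rw [map_mul, map_mul, epu, epm, ← map_mul, ← map_mul] at h
    exact h
  have hmem := QuotientGroup.eq.1 hq
  rw [hCn, mem_subgroupOf] at hmem
  have hcv := mem_centralizer_iff.1 hmem v hvP
  have e1 : (u * m) * v * (u * m)⁻¹ = w := by
    rw [show u * m * v * (u * m)⁻¹ = u * (m * v * m⁻¹) * u⁻¹ by group, hmv, huw.eq, mul_inv_cancel_right]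
  have e2 : (m * u) * v * (m * u)⁻¹ = w⁻¹ := by
    rw [show m * u * v * (m * u)⁻¹ = m * (u * v * u⁻¹) * m⁻¹ by group, huv, ← hmv]
    group
  have e3 : (u * m) * v * (u * m)⁻¹ = (m * u) * v * (m * u)⁻¹ := by
    have hd : (((⟨u * m, mul_mem huN hmN⟩ : N)⁻¹ * ⟨m * u, mul_mem hmN huN⟩ : N) : G) = (u * m)⁻¹ * (m * u) := rfl
    rw [hd] at hcv
    calc (u * m) * v * (u * m)⁻¹ = (u * m) * (v * ((u * m)⁻¹ * (m * u))) * (m * u)⁻¹ := by group
      _ = (u * m) * (((u * m)⁻¹ * (m * u)) * v) * (m * u)⁻¹ := by rw [hcv]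
      _ = _ := by group
  rw [e1, e2, eq_inv_iff_mul_eq_one, ← pow_two, ← orderOf_dvd_iff_pow_eq_one, hw] at e3
  norm_num at e3

/-- `3 ∤ a`. -/
theorem Torus.not_three_dvd (T : Torus F t L a S V i s y) (C : Cyc t i y w u) : ¬ 3 ∣ a := by
  classical
  intro h3
  obtain ⟨d, hd⟩ := h3
  have hd0 : d ≠ 0 := fun e => by
    have := T.a_pos
    rw [e] at hd
    omega
  set x := (y ^ 2) ^ d with hxdef
  have hox : orderOf x = 3 := by
    rw [hxdef, orderOf_pow_of_dvd hd0 (T.orderOf_sq ▸ hd ▸ dvd_mul_left d 3), T.orderOf_sq, hd,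
      Nat.mul_div_cancel _ (Nat.pos_of_ne_zero hd0)]
  have hx : x ∈ oddTor y := pow_mem (mem_zpowers _) d
  have hx1 : x ≠ 1 := fun e => by rw [e, orderOf_one] at hox; omega
  have hx3 : x ^ 3 = 1 := by rw [← hox, pow_orderOf_eq_one]
  have hsub : ∀ v ∈ oddTor y, v ^ 3 = 1 → v ∈ zpowers x := fun v hv hv3 =>
    GWKlein.L2.mem_zpowers_of_pow_eq_one hv hx (by rw [hox]; exact hv3)
  have hxcases : ∀ v ∈ zpowers x, v = 1 ∨ v = x ∨ v = x⁻¹ := fun v hv => by
    obtain ⟨m, rfl⟩ := hv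
    show x ^ m = 1 ∨ x ^ m = x ∨ x ^ m = x⁻¹
    rw [← zpow_mod_orderOf, hox]
    rcases (by omega : m % (3 : ℕ) = 0 ∨ m % (3 : ℕ) = 1 ∨ m % (3 : ℕ) = 2) with e | e | e <;> rw [e]
    · left; exact zpow_zero x
    · right; left; exact zpow_one x
    · right; right
      rw [zpow_two]
      exact (inv_eq_of_mul_eq_one_right (by rw [← mul_assoc, ← pow_two, ← pow_succ, hx3])).symm
  have hwx : Commute w x := by
    obtain ⟨h1, -⟩ := T.cycle_oddTor C.wt C.wi hx
    rcases hxcases _ (hsub _ h1 (by rw [conj_pow, hx3, mul_one, mul_inv_cancel])) with e | e | e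
    · exact absurd (conj_eq_one_iff.1 e) hx1
    · exact mul_inv_eq_iff_eq_mul.1 e
    · exfalso
      have e' : w * x⁻¹ * w⁻¹ = x := by
        calc w * x⁻¹ * w⁻¹ = (w * x * w⁻¹)⁻¹ := by group
          _ = x := by rw [e, inv_inv]
      have e3 : x = x⁻¹ := by
        calc x = w ^ 3 * x * (w ^ 3)⁻¹ := by rw [C.w3]; group
          _ = w * (w * (w * x * w⁻¹) * w⁻¹) * w⁻¹ := by simp [pow_succ, mul_assoc, mul_inv_rev]
          _ = x⁻¹ := by rw [e, e', e]
      rw [eq_inv_iff_mul_eq_one, ← pow_two, ← orderOf_dvd_iff_pow_eq_one, hox] at e3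
      norm_num at e3
  obtain ⟨k, hkt, hkw⟩ := T.exists_conj_oddTor ⟨d, hd⟩ C.ou C.order C.wu
  set v := k⁻¹ * w * k with hv
  have hv3 : v ^ 3 = 1 := by
    have := conj_pow (i := 3) (a := k⁻¹) (b := w)
    rw [inv_inv] at this
    rw [hv, this, C.w3]; group
  have hv1 : v ≠ 1 := fun e => by
    have : orderOf v = 3 := by rw [hv, orderOf_pull, C.order]
    rw [e, orderOf_one] at this
    omega
  have hvx : v = x ∨ v = x⁻¹ := (hxcases v (hsub v hkw hv3)).resolve_left hv1
  have hcv : ∀ z : G, Commute z v ↔ Commute z x := fun z => by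
    rcases hvx with e | e <;> rw [e]
    exact Commute.inv_right_iff
  have hux : u * x * u⁻¹ = x⁻¹ := C.inv x hx
  set x' := k⁻¹ * x * k with hx'
  have hx'v : Commute x' x := (hcv x').1 (conj_commute hwx.symm)
  have htx' : t * x' * t⁻¹ = x'⁻¹ := by
    rw [← hkt, hx', show k⁻¹ * u * k * (k⁻¹ * x * k) * (k⁻¹ * u * k)⁻¹ = k⁻¹ * (u * x * u⁻¹) * k by group, hux]
    group
  -- the conjugate torus centralises `x`
  have hAx : ∀ a' ∈ oddTor y, Commute (k * a' * k⁻¹) x := by
    intro a' ha'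
    have hm : x'⁻¹ * a' * x'⁻¹⁻¹ ∈ oddTor y := T.cent_le_normalizer hx hx1 hx'v.inv_left ha'
    have hct : Commute t (x'⁻¹ * a' * x'⁻¹⁻¹) := T.tor_comm T.t_mem_tor (T.oddTor_le_tor hm)
    have h1 := hct.map (MulAut.conj x').toMonoidHom
    simp only [MulEquiv.coe_toMonoidHom, MulAut.conj_apply] at h1
    rw [show x' * (x'⁻¹ * a' * x'⁻¹⁻¹) * x'⁻¹ = a' by group] at h1
    have e : x' * t * x'⁻¹ = x' ^ 2 * t := by
      calc x' * t * x'⁻¹ = x' * (t * x'⁻¹ * t⁻¹) * t := by group
        _ = x' * (t * x' * t⁻¹)⁻¹ * t := by group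
        _ = _ := by rw [htx', inv_inv, pow_two]
    rw [e] at h1
    have hta : Commute t a' := T.tor_comm T.t_mem_tor (T.oddTor_le_tor ha')
    have h2 : Commute (x' ^ 2) a' := by
      have := h1.mul_left hta.inv_left
      rwa [mul_inv_cancel_right] at this
    have h4 := h2.mul_left h2
    rw [← pow_add] at h4
    have hx'3 : x' ^ 3 = 1 := by
      have := conj_pow (i := 3) (a := k⁻¹) (b := x)
      rw [inv_inv] at this
      rw [hx', this, hx3]; group
    rw [show 2 + 2 = 3 + 1 from rfl, pow_succ, hx'3, one_mul] at h4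
    have := h4.symm.map (MulAut.conj k).toMonoidHom
    simp only [MulEquiv.coe_toMonoidHom, MulAut.conj_apply, hx',
      show k * (k⁻¹ * x * k) * k⁻¹ = x by group] at this
    exact this
  -- it embeds in `C(x) / A`
  set X := centralizer ({x} : Set G) with hX
  have hAn : ((oddTor y).subgroupOf X).Normal := by
    rw [hX, ← T.oddCore_cent hx hx1]; exact Cores.pPrimeCore_normal 2 _
  obtain ⟨h60, h15⟩ := T.quot_facts hx hx1
  let πX := QuotientGroup.mk' ((oddTor y).subgroupOf X)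
  have hkt' : k * t * k⁻¹ = u := by rw [← hkt]; group
  let z : X := ⟨k * y ^ 2 * k⁻¹, mem_centralizer_singleton_iff.2 (hAx _ (mem_zpowers _)).eq⟩
  have hord : orderOf (πX z) = a := by
    refine Nat.dvd_antisymm (orderOf_dvd_of_pow_eq_one ?_) ?_
    · rw [← map_pow]
      refine (QuotientGroup.eq_one_iff _).2 (mem_subgroupOf.2 ?_)
      show (k * y ^ 2 * k⁻¹) ^ a ∈ oddTor y
      rw [conj_pow, ← T.orderOf_sq, pow_orderOf_eq_one, mul_one, mul_inv_cancel]
      exact one_mem _
    · have h := pow_orderOf_eq_one (πX z)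
      rw [← map_pow] at h
      have hm : (k * y ^ 2 * k⁻¹) ^ orderOf (πX z) ∈ oddTor y :=
        mem_subgroupOf.1 ((QuotientGroup.eq_one_iff (N := (oddTor y).subgroupOf X) _).1 h)
      set p := (y ^ 2) ^ orderOf (πX z) with hp
      rw [conj_pow, ← hp] at hm
      have hpu : Commute u (k * p * k⁻¹) := by
        rw [← hkt']
        exact (T.tor_comm T.t_mem_tor (T.oddTor_le_tor (pow_mem (mem_zpowers _) _))).map
          (MulAut.conj k).toMonoidHom
      have hinv := C.inv _ hm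
      rw [hpu.eq, mul_inv_cancel_right, eq_inv_iff_mul_eq_one] at hinv
      have h1 : k * p * k⁻¹ = 1 := PSL2.eq_one_of_sq (T.odd_oddTor hm) (by
        first | exact hinv | rw [pow_two]; exact hinv)
      rw [← T.orderOf_sq]
      exact orderOf_dvd_of_pow_eq_one (conj_eq_one_iff.1 h1)
  have ha3 : a = 3 := by
    have h1 : a ∣ 60 := hord ▸ (_root_.orderOf_dvd_natCard _).trans h60
    have h2 : a ≠ 15 := fun e => h15 (zpowers (πX z)) (by rw [Nat.card_zpowers, hord, e])
    obtain ⟨j, hj⟩ := T.a_odd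
    have hle := Nat.le_of_dvd (by norm_num) h1
    have hd20 : d ≤ 20 := by omega
    subst hd
    interval_cases d <;> revert h1 h2 <;> (first | omega | decide | (intro h1 h2; omega))
  refine false_of_nine (sylow_comm T.fac.data) hox C.order hwx hux C.wu.symm ?_ hvx
  intro h27
  have hA : oddTor y ≤ X := T.oddTor_le_tor.trans (T.tor_le_cent hx)
  have h := ((oddTor y).subgroupOf X).card_eq_card_quotient_mul_card_subgroup
  have hNc : Nat.card ((oddTor y).subgroupOf X) = 3 :=
    ((Nat.card_congr (subgroupOfEquivOfLe hA).toEquiv).trans T.card_oddTor).trans ha3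
  rw [hNc] at h
  have h9 : 27 ∣ 60 * 3 := h27.trans (h ▸ Nat.mul_dvd_mul_right h60 3)
  norm_num at h9

end Cfsg.Agent.AbelianSylow.Local
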