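import Cfsg.Agent.Lib.AbelianSylow.Local.Torus
import Cfsg.Agent.Lib.PSL2.Centralizers

/-!
# Elements of order three in involution centralisers (owner: helper88)

* `Torus.three_dvd_of_pair` : if an element of order 3 centralises a four group then `3 ∣ a`
* `Torus.exists_conj_oddTor`: for `3 ∣ a` an element of order 3 centralising an involution is conjugate,
  with it, into `(t, A)`
* `Torus.card_cent_three`   : for `3 ∤ a` the common centraliser has order `2c`, `c` odd, `c² = 1 (mod a)`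
-/

set_option autoImplicit false
set_option linter.unusedSectionVars false
set_option linter.style.haveILetI false

namespace Cfsg.Agent.AbelianSylow.Local

open Cfsg Subgroup AbelianTwoPSL Involution

universe u

variable {G : Type u} [Group G] [Finite G] {F : Type} [Field F] [Fintype F]

/-- The centraliser of an element of order 3 off the even torus. -/
theorem card_cent_psl_three {a : ℕ} (hq : (Fintype.card F % 8 = 3 ∧ Fintype.card F + 1 = 4 * a) ∨
    (Fintype.card F % 8 = 5 ∧ Fintype.card F = 4 * a + 1)) (h3a : ¬ 3 ∣ a) {x : PSL2.PSL2 F}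
    (hx : orderOf x = 3) :
    Odd (Nat.card (centralizer ({x} : Set (PSL2.PSL2 F)))) ∧
      Nat.card (centralizer ({x} : Set (PSL2.PSL2 F))) ^ 2 % a = 1 % a := by
  obtain ⟨p, hp⟩ := CharP.exists F
  haveI : Fact p.Prime := ⟨CharP.char_is_prime F p⟩
  have hc : Nat.card F = Fintype.card F := Nat.card_eq_fintype_card
  have ha : 0 < a := by omega
  obtain ⟨b, rfl⟩ : ∃ b, a = b + 1 := ⟨a - 1, by omega⟩
  by_cases h3 : p = 3
  · subst h3
    rw [PSL2.card_centralizer_char 3 hx, hc]
    refine ⟨Nat.odd_iff.2 (by omega), ?_⟩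
    rcases hq with ⟨h8, e⟩ | ⟨h8, e⟩
    · rw [show Fintype.card F = 4 * b + 3 by omega,
        show (4 * b + 3) ^ 2 = 1 + (b + 1) * (16 * b + 8) by ring, Nat.add_mul_mod_self_left]
    · rw [e, show (4 * (b + 1) + 1) ^ 2 = 1 + (b + 1) * (16 * b + 24) by ring,
        Nat.add_mul_mod_self_left]
  · have hxp : ¬ orderOf x ∣ p := fun hd => by
      rw [hx, Nat.prime_dvd_prime_iff_eq Nat.prime_three Fact.out] at hd
      exact h3 hd.symm
    obtain ⟨z, hxz, hC, hz⟩ := PSL2.centralizer_torus p hxp (by omega)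
    have h3z : 3 ∣ orderOf z := hx ▸ orderOf_dvd_of_mem_zpowers hxz
    rw [hC, Nat.card_zpowers]
    rw [show Nat.gcd 2 (Nat.card F - 1) = 2 from Nat.gcd_eq_left (by omega), hc] at hz
    rcases hq with ⟨h8, e⟩ | ⟨h8, e⟩
    · have hb : orderOf z = 2 * b + 1 := by omega
      refine ⟨Nat.odd_iff.2 (by omega), ?_⟩
      rw [hb, show (2 * b + 1) ^ 2 = 1 + (b + 1) * (4 * b) by ring, Nat.add_mul_mod_self_left]
    · have hb : orderOf z = 2 * b + 3 := by omega
      refine ⟨Nat.odd_iff.2 (by omega), ?_⟩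
      rw [hb, show (2 * b + 3) ^ 2 = 1 + (b + 1) * (4 * b + 8) by ring, Nat.add_mul_mod_self_left]

variable {t : G} {L : Subgroup G} {a : ℕ} {S : Sylow 2 G} {V : Subgroup G} {i s y : G}

theorem Torus.odd_three {g : G} (hg : orderOf g = 3) : Odd (orderOf g) := hg ▸ ⟨1, rfl⟩

/-- Conjugate involutions, transported to `t`. -/
theorem Torus.exists_pull (T : Torus F t L a S V i s y) {u : G} (hu : orderOf u = 2) :
    ∃ k : G, k⁻¹ * u * k = t := by
  obtain ⟨k, hk⟩ := T.fac.conj_invol hu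
  exact ⟨k, by rw [← hk]; group⟩

theorem conj_commute {k u g : G} (h : Commute u g) : Commute (k⁻¹ * u * k) (k⁻¹ * g * k) := by
  have := h.map (MulAut.conj k⁻¹).toMonoidHom
  simpa [MulAut.conj_apply] using this

theorem orderOf_pull (k g : G) : orderOf (k⁻¹ * g * k) = orderOf g := by
  have := orderOf_conj k⁻¹ g
  rwa [inv_inv] at this

/-- An element of order 3 in `L` and an involution commuting with it. -/
theorem Torus.three_dvd_of_inv (T : Torus F t L a S V i s y) {g v : G} (hv : orderOf v = 2) (hvL : v ∈ L)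
    (hg : orderOf g = 3) (hgL : g ∈ L) (hgv : Commute g v) : 3 ∣ a := by
  obtain ⟨k, hk⟩ := isConj_iff.1 (T.fac.ctx.data.conj ⟨v, hvL⟩ ⟨i, T.frame.memE₀ T.iV⟩
    (by rw [← orderOf_coe]; exact hv) (by rw [← orderOf_coe]; exact T.frame.orderOf_V T.iV T.i_ne))
  have hk' : (k : G) * v * (k : G)⁻¹ = i := congrArg Subtype.val hk
  have hc := hgv.map (MulAut.conj (k : G)).toMonoidHom
  simp only [MulEquiv.coe_toMonoidHom, MulAut.conj_apply, hk'] at hc
  have hgk : orderOf ((k : G) * g * (k : G)⁻¹) = 3 := by rw [orderOf_conj, hg]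
  have hm := T.mem_oddTor (T.fac.ctx.comm _ (mul_mem (mul_mem k.2 hgL) (inv_mem k.2))) hc (Torus.odd_three hgk)
  rw [← hgk, ← T.card_oddTor]
  exact (oddTor y).orderOf_dvd_natCard hm

/-- An element of order 3 centralising a four group. -/
theorem Torus.three_dvd_of_pair (T : Torus F t L a S V i s y) {g u v : G} (hu : orderOf u = 2)
    (hv : orderOf v = 2) (huv : u ≠ v) (hc : Commute u v) (hg : orderOf g = 3) (hgu : Commute g u)
    (hgv : Commute g v) : 3 ∣ a := by
  obtain ⟨k, hk⟩ := T.exists_pull hu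
  have hgt : Commute (k⁻¹ * g * k) t := hk ▸ conj_commute hgu
  have hvt : Commute (k⁻¹ * v * k) t := hk ▸ conj_commute hc.symm
  have hg' : orderOf (k⁻¹ * g * k) = 3 := by rw [orderOf_pull, hg]
  have hgL := T.fac.ctx.mem_of_odd hgt (Torus.odd_three hg')
  have hv' : orderOf (k⁻¹ * v * k) = 2 := by rw [orderOf_pull, hv]
  rcases T.fac.ctx.split _ hvt with hL | ⟨e, he, heq⟩
  · exact T.three_dvd_of_inv hv' hL hg' hgL (conj_commute hgv)
  · have hte : Commute t e := (T.fac.ctx.comm e he).symm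
    have h2 : e * e = 1 := by
      have := mul_self hv'
      rwa [heq, ← pow_two, hte.mul_pow, pow_two, pow_two, T.fac.tt, one_mul] at this
    have he1 : e ≠ 1 := fun e1 => huv (by
      rw [e1, mul_one, ← hk] at heq
      exact (mul_left_cancel (mul_right_cancel heq)).symm)
    refine T.three_dvd_of_inv (orderOf_eq_prime (by rw [pow_two, h2]) he1) he hg' hgL ?_
    have h := conj_commute (k := k) hgv
    rw [heq] at h
    have h3 := hgt.mul_right h
    rwa [← mul_assoc, T.fac.tt, one_mul] at h3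

/-- For `3 ∣ a` an element of order 3 centralising an involution is conjugate into `A`. -/
theorem Torus.exists_conj_oddTor (T : Torus F t L a S V i s y) (h3a : 3 ∣ a) {g u : G}
    (hu : orderOf u = 2) (hg : orderOf g = 3) (hgu : Commute g u) :
    ∃ k : G, k⁻¹ * u * k = t ∧ k⁻¹ * g * k ∈ oddTor y := by
  obtain ⟨k, hk⟩ := T.exists_pull hu
  have hgt : Commute (k⁻¹ * g * k) t := hk ▸ conj_commute hgu
  have hg' : orderOf (k⁻¹ * g * k) = 3 := by rw [orderOf_pull, hg]
  set g' := k⁻¹ * g * k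
  have hgL := T.fac.ctx.mem_of_odd hgt (Torus.odd_three hg')
  obtain ⟨d, hd⟩ := h3a
  set x := (y ^ 2) ^ d with hx
  have hd0 : d ≠ 0 := by
    have := T.a_pos
    intro e
    rw [e] at hd
    omega
  have hox : orderOf x = 3 := by
    rw [hx, orderOf_pow_of_dvd hd0 (T.orderOf_sq ▸ hd ▸ dvd_mul_left d 3), T.orderOf_sq, hd,
      Nat.mul_div_cancel _ (Nat.pos_of_ne_zero hd0)]
  have hxA : x ∈ oddTor y := pow_mem (mem_zpowers _) d
  obtain ⟨e⟩ := T.fac.iso
  obtain ⟨p, hp⟩ := CharP.exists F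
  haveI : Fact p.Prime := ⟨CharP.char_is_prime F p⟩
  have hp3 : p ≠ 3 := fun h => by
    subst h
    obtain ⟨n, -, hn⟩ := FiniteField.card F 3
    have : 3 ∣ Fintype.card F := hn ▸ dvd_pow_self 3 n.pos.ne'
    rcases T.hq with ⟨_, e⟩ | ⟨_, e⟩ <;> omega
  have hog : orderOf (e ⟨g', hgL⟩) = 3 := by rw [MulEquiv.orderOf_eq, ← orderOf_coe]; exact hg'
  have hox' : orderOf (e ⟨x, T.oddTor_le hxA⟩) = 3 := by
    rw [MulEquiv.orderOf_eq, ← orderOf_coe]; exact hox
  obtain ⟨h, hh⟩ := PSL2.conj_zpowers p (x := e ⟨g', hgL⟩) (x' := e ⟨x, T.oddTor_le hxA⟩)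
    (fun hd => hp3 ((Nat.prime_dvd_prime_iff_eq Nat.prime_three Fact.out).1 (hog ▸ hd)).symm)
    (hog.trans hox'.symm)
  obtain ⟨l, rfl⟩ := e.surjective h
  rw [← map_inv, ← map_mul, ← map_mul] at hh
  obtain ⟨m, hm⟩ : e (l * ⟨g', hgL⟩ * l⁻¹) ∈ zpowers (e ⟨x, T.oddTor_le hxA⟩) := hh ▸ mem_zpowers _
  simp only at hm
  rw [← map_zpow] at hm
  have hm' : x ^ m = (l : G) * g' * (l : G)⁻¹ := by
    simpa using congrArg Subtype.val (e.injective hm)
  refine ⟨k * (l : G)⁻¹, ?_, ?_⟩
  · calc (k * (l : G)⁻¹)⁻¹ * u * (k * (l : G)⁻¹) = (l : G) * (k⁻¹ * u * k) * (l : G)⁻¹ := by group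
      _ = t := by rw [hk, (T.fac.ctx.comm _ l.2).eq, mul_inv_cancel_right]
  · rw [show (k * (l : G)⁻¹)⁻¹ * g * (k * (l : G)⁻¹) = (l : G) * g' * (l : G)⁻¹ by simp only [g']; group, ← hm']
    exact zpow_mem hxA m

/-- For `3 ∤ a`: the common centraliser of an involution and an element of order 3. -/
theorem Torus.card_cent_three (T : Torus F t L a S V i s y) (h3a : ¬ 3 ∣ a) {g u : G}
    (hu : orderOf u = 2) (hg : orderOf g = 3) (hgu : Commute g u) :
    ∃ c, Odd c ∧ c ^ 2 % a = 1 % a ∧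
      Nat.card (centralizer ({g} : Set G) ⊓ centralizer ({u} : Set G) : Subgroup G) = 2 * c := by
  obtain ⟨k, hk⟩ := T.exists_pull hu
  have hgt : Commute (k⁻¹ * g * k) t := hk ▸ conj_commute hgu
  have hg' : orderOf (k⁻¹ * g * k) = 3 := by rw [orderOf_pull, hg]
  set g' := k⁻¹ * g * k with hg'def
  have hgL := T.fac.ctx.mem_of_odd hgt (Torus.odd_three hg')
  obtain ⟨e⟩ := T.fac.iso
  have hog : orderOf (e ⟨g', hgL⟩) = 3 := by rw [MulEquiv.orderOf_eq, ← orderOf_coe]; exact hg'
  obtain ⟨h1, h2⟩ := card_cent_psl_three T.hq h3a hog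
  refine ⟨_, h1, h2, ?_⟩
  let C := centralizer ({g} : Set G) ⊓ centralizer ({u} : Set G)
  let D := centralizer ({e ⟨g', hgL⟩} : Set (PSL2.PSL2 F))
  have hku : k * t * k⁻¹ = u := by rw [← hk]; group
  have htg : ∀ z : D, Commute ((e.symm (z : PSL2.PSL2 F) : L) : G) g' := fun z => by
    have := (show Commute (z : PSL2.PSL2 F) (e ⟨g', hgL⟩) from
      mem_centralizer_singleton_iff.1 z.2).map e.symm.toMonoidHom
    simpa using this.map L.subtype
  let φ : Bool × D → C := fun p =>
    ⟨k * ((if p.1 then t else 1) * ((e.symm (p.2 : PSL2.PSL2 F) : L) : G)) * k⁻¹, by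
      set z := (if p.1 then t else 1) * ((e.symm (p.2 : PSL2.PSL2 F) : L) : G) with hz
      have hzg : Commute z g' := Commute.mul_left
        (by split; exacts [hgt.symm, Commute.one_left _]) (htg p.2)
      have hzt : Commute z t := Commute.mul_left
        (by split; exacts [Commute.refl t, Commute.one_left _]) (T.fac.ctx.comm _ (e.symm _).2)
      have c1 := hzg.map (MulAut.conj k).toMonoidHom
      have c2 := hzt.map (MulAut.conj k).toMonoidHom
      simp only [MulEquiv.coe_toMonoidHom, MulAut.conj_apply, hku] at c1 c2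
      rw [show k * g' * k⁻¹ = g by simp only [g']; group] at c1
      exact ⟨mem_centralizer_singleton_iff.2 c1.eq, mem_centralizer_singleton_iff.2 c2.eq⟩⟩
  have hφ : Function.Bijective φ := by
    constructor
    · rintro ⟨b, w⟩ ⟨b', w'⟩ h
      have h' : (if b then t else 1) * ((e.symm (w : PSL2.PSL2 F) : L) : G) =
          (if b' then t else 1) * ((e.symm (w' : PSL2.PSL2 F) : L) : G) :=
        mul_left_cancel (mul_right_cancel (congrArg Subtype.val h))
      cases b <;> cases b' <;> simp only [Bool.false_eq_true, if_false, if_true, one_mul] at h'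
      · rw [Subtype.ext (e.symm.injective (Subtype.ext h'))]
      · exact absurd ((eq_mul_inv_of_mul_eq h'.symm) ▸ mul_mem (e.symm (w : PSL2.PSL2 F)).2
          (inv_mem (e.symm (w' : PSL2.PSL2 F)).2)) T.fac.ctx.htE
      · exact absurd ((eq_mul_inv_of_mul_eq h') ▸ mul_mem (e.symm (w' : PSL2.PSL2 F)).2
          (inv_mem (e.symm (w : PSL2.PSL2 F)).2)) T.fac.ctx.htE
      · rw [Subtype.ext (e.symm.injective (Subtype.ext (mul_left_cancel h')))]
    · rintro ⟨z, hzg, hzu⟩
      have hzt : Commute (k⁻¹ * z * k) t := hk ▸ conj_commute (mem_centralizer_singleton_iff.1 hzu)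
      have hzg' : Commute (k⁻¹ * z * k) g' := conj_commute (mem_centralizer_singleton_iff.1 hzg)
      have hD : ∀ w (hw : w ∈ L), Commute w g' → e ⟨w, hw⟩ ∈ D := fun w hw hc =>
        mem_centralizer_singleton_iff.2
          ((show Commute (⟨w, hw⟩ : L) ⟨g', hgL⟩ from Subtype.ext hc.eq).map e.toMonoidHom).eq
      rcases T.fac.ctx.split _ hzt with hL | ⟨w, hw, heq⟩
      · refine ⟨(false, ⟨_, hD _ hL hzg'⟩), Subtype.ext ?_⟩
        simp [φ, mul_assoc]
      · have hwg : Commute w g' := by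
          have := hgt.symm.mul_left hzg'
          rwa [heq, ← mul_assoc, T.fac.tt, one_mul] at this
        refine ⟨(true, ⟨_, hD w hw hwg⟩), Subtype.ext ?_⟩
        show k * ((if true then t else 1) * ((e.symm (e ⟨w, hw⟩) : L) : G)) * k⁻¹ = z
        rw [e.symm_apply_apply, if_pos rfl]
        show k * (t * w) * k⁻¹ = z
        rw [← heq]; group
  rw [← Nat.card_congr (Equiv.ofBijective φ hφ), Nat.card_prod]
  simp [D]

end Cfsg.Agent.AbelianSylow.Local
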